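/-
Chevalley data: auxiliary lookup tables, the root element matrix as a sparse list of entries, and
symbolic action on sparse vectors with polynomial coefficients in two variables.
-/
import Cfsg.Prelude.Def_ChevStructure

set_option autoImplicit false

namespace CfsgLib.Lie.Chev

open Cfsg.Lie (ChevalleyDatum)
open scoped Matrix

/-- Cached tables: simple reflections with signs (16 bits per root), root coordinates (8 bits, offset 128),
coroot coordinates (8 bits, offset 128), orbit representatives and base pairs for the commutator formula. -/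
structure Aux where
  wtab : List ℕ
  ctab : List ℕ
  htab : List ℕ
  reps : List ℕ
  bases : List (ℕ × ℕ)

namespace Aux
variable (X : Aux)

/-- packed entry -/
def wc (i s : ℕ) : ℕ := Nat.land (Nat.shiftRight (X.wtab.getD i 0) (Nat.shiftLeft s 4)) 65535
/-- the image of root `s` under the `i`-th simple reflection -/
def w (i s : ℕ) : ℕ := Nat.shiftRight (X.wc i s) 1
/-- whether the sign is negative -/
def sg (i s : ℕ) : Bool := Nat.beq (Nat.land (X.wc i s) 1) 1
/-- the sign with which `n_i` maps `e_s` to `e_{w s}` -/
def eta (i s : ℕ) : ℤ := bif X.sg i s then -1 else 1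
/-- coefficient of the `i`-th simple root in root `s` -/
def coef (i s : ℕ) : ℤ := Int.subNatNat (Nat.land (Nat.shiftRight (X.ctab.getD i 0) (Nat.shiftLeft s 3)) 255) 128
/-- coefficient of the `i`-th simple coroot in the coroot of `s` -/
def cor (i s : ℕ) : ℤ := Int.subNatNat (Nat.land (Nat.shiftRight (X.htab.getD i 0) (Nat.shiftLeft s 3)) 255) 128

theorem eta_or (i s : ℕ) : X.eta i s = 1 ∨ X.eta i s = -1 := by
  unfold eta; cases X.sg i s <;> simp

theorem eta_sq (i s : ℕ) : X.eta i s * X.eta i s = 1 := by
  rcases X.eta_or i s with h | h <;> simp [h]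

theorem eta_ne_zero (i s : ℕ) : X.eta i s ≠ 0 := by
  rcases X.eta_or i s with h | h <;> simp [h]

theorem eta_sq_cast {F : Type*} [Field F] (i s : ℕ) : ((X.eta i s : ℤ) : F) * (X.eta i s : F) = 1 := by
  rw [← Int.cast_mul, eta_sq, Int.cast_one]

end Aux

variable (D : ChevalleyDatum)

/-- a row of the chain table -/
def row (r : ℕ) : List (ℕ × Array (ℕ × ℤ)) := (D.chain.getD r #[]).toList

/-- coroot coordinate -/
def corD (r i : ℕ) : ℤ := (D.coroot.getD r #[]).getD i 0

/-- flattened chain part of the entries of `x_r` -/
def chainEntries (r : ℕ) : List (ℕ × ℕ × ℕ × ℤ) :=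
  (row D r).flatMap fun e => e.2.toList.zipIdx.map fun q => (q.2 + 1, D.rank + q.1.1, D.rank + e.1, q.1.2)

/-- Cartan/coroot part of the entries of `x_r` -/
def torusEntries (r : ℕ) : List (ℕ × ℕ × ℕ × ℤ) :=
  (List.range D.rank).flatMap fun i =>
    [(1, D.rank + r, i, - D.cartan i r), (1, i, D.rank + D.neg r, corD D r i)]

/-- the entries (degree, row, column, coefficient) of `x_r(t) - 1` -/
def entries (r : ℕ) : List (ℕ × ℕ × ℕ × ℤ) :=
  torusEntries D r ++ ((2, D.rank + r, D.rank + D.neg r, -1) :: chainEntries D r)

/-- numbering of the coordinate index set -/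
def code : D.Idx → ℕ
  | Sum.inl i => i.1
  | Sum.inr s => D.rank + s.1

theorem code_inl (i : Fin D.rank) : code D (Sum.inl i) = i.1 := (rfl)
theorem code_inr (s : Fin D.nroots) : code D (Sum.inr s) = D.rank + s.1 := (rfl)

theorem code_injective : Function.Injective (code D) := by
  intro a b h
  cases a with
  | inl i =>
    cases b with
    | inl j => exact congrArg Sum.inl (Fin.ext h)
    | inr s => exfalso; simp only [code] at h; omega
  | inr s =>
    cases b with
    | inl j => exfalso; simp only [code] at h; omega
    | inr t => simp only [code] at h; exact congrArg Sum.inr (Fin.ext (by omega))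

theorem code_lt (a : D.Idx) : code D a < D.rank + D.nroots := by
  cases a <;> simp only [code] <;> omega

theorem exists_code {j : ℕ} (h : j < D.rank + D.nroots) : ∃ a : D.Idx, code D a = j := by
  by_cases h' : j < D.rank
  · exact ⟨Sum.inl ⟨j, h'⟩, rfl⟩
  · exact ⟨Sum.inr ⟨j - D.rank, by omega⟩, by simp only [code]; omega⟩

/-- the matrix of a list of entries -/
def matOf {F : Type*} [Field F] (L : List (ℕ × ℕ × ℕ × ℤ)) (t : F) : Matrix D.Idx D.Idx F :=
  Matrix.of fun a b =>
    (L.map fun e => if e.2.1 = code D a ∧ e.2.2.1 = code D b then (e.2.2.2 : F) * t ^ e.1 else 0).sum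

theorem matOf_append {F : Type*} [Field F] (L L' : List (ℕ × ℕ × ℕ × ℤ)) (t : F) :
    matOf D (L ++ L') t = matOf D L t + matOf D L' t := by
  ext a b; simp [matOf]

theorem matOf_nil {F : Type*} [Field F] (t : F) : matOf D [] t = 0 := by
  ext a b; simp [matOf]

theorem list_sum_eq_zero {α M : Type*} [AddMonoid M] {L : List α} {f : α → M} (h : ∀ x ∈ L, f x = 0) :
    (L.map f).sum = 0 := by
  induction L with
  | nil => rfl
  | cons x L ih => simp [h x (by simp), ih fun y hy => h y (by simp [hy])]

theorem list_range_sum_single {M : Type*} [AddCommMonoid M] {n i : ℕ} (hi : i < n) (f : ℕ → M)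
    (h : ∀ j, j < n → j ≠ i → f j = 0) : ((List.range n).map f).sum = f i := by
  induction n with
  | zero => omega
  | succ n ih =>
    rw [List.range_succ, List.map_append, List.sum_append]
    by_cases hin : i = n
    · subst hin
      rw [list_sum_eq_zero fun x hx => h x (by have := List.mem_range.1 hx; omega) (by have := List.mem_range.1 hx; omega)]
      simp
    · rw [ih (by omega) fun j hj => h j (by omega)]
      simp [h n (by omega) (Ne.symm hin)]

theorem list_sum_flatMap {α β M : Type*} [AddMonoid M] (L : List α) (g : α → List β) (f : β → M) :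
    ((L.flatMap g).map f).sum = (L.map fun a => ((g a).map f).sum).sum := by
  induction L with
  | nil => rfl
  | cons x L ih => simp [ih]

theorem list_sum_filter {α M : Type*} [AddMonoid M] (L : List α) (p : α → Bool) (f : α → M) :
    ((L.filter p).map f).sum = (L.map fun a => bif p a then f a else 0).sum := by
  induction L with
  | nil => rfl
  | cons x L ih => cases hp : p x <;> simp [hp, ih]

theorem chainSum_inl {F : Type*} [Field F] (r : ℕ) (t : F) (a : D.Idx) (i : Fin D.rank) :
    matOf D (chainEntries D r) t a (Sum.inl i) = 0 := by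
  refine list_sum_eq_zero fun e he => ?_
  simp only [chainEntries, List.mem_flatMap, List.mem_map] at he
  obtain ⟨x, _, q, _, rfl⟩ := he
  refine if_neg ?_
  rintro ⟨_, h⟩
  simp only [code_inl] at h
  omega

theorem chainSum_inr_eq_zero {F : Type*} [Field F] (r : ℕ) (t : F) (a : D.Idx) (s : Fin D.nroots)
    (h : ∀ e ∈ row D r, e.1 ≠ s.1) :
    matOf D (chainEntries D r) t a (Sum.inr s) = 0 := by
  refine list_sum_eq_zero fun e he => ?_
  simp only [chainEntries, List.mem_flatMap, List.mem_map] at he
  obtain ⟨x, hx, q, _, rfl⟩ := he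
  refine if_neg ?_
  rintro ⟨_, h'⟩
  simp only [code_inr] at h'
  exact h x hx (by omega)

theorem chainSum_row_inl {F : Type*} [Field F] (r : ℕ) (t : F) (i : Fin D.rank) (b : D.Idx) :
    matOf D (chainEntries D r) t (Sum.inl i) b = 0 := by
  refine list_sum_eq_zero fun e he => ?_
  simp only [chainEntries, List.mem_flatMap, List.mem_map] at he
  obtain ⟨x, _, q, _, rfl⟩ := he
  refine if_neg ?_
  rintro ⟨h, _⟩
  simp only [code_inl] at h
  omega

theorem chainSum_inr_inr {F : Type*} [Field F] (r : ℕ) (t : F) (u s : Fin D.nroots) :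
    matOf D (chainEntries D r) t (Sum.inr u) (Sum.inr s) =
      ((D.chainCoeff r s.1 u.1).map fun km => ((km.2 : ℤ) : F) * t ^ km.1).sum := by
  simp only [matOf, Matrix.of_apply, ChevalleyDatum.chainCoeff, chainEntries, row, code_inr, list_sum_flatMap,
    List.map_map, Function.comp_def]
  rw [list_sum_filter]
  refine congrArg List.sum (List.map_congr_left fun e _ => ?_)
  by_cases he : e.1 = s.1
  · rw [decide_eq_true he, cond_true, list_sum_filter]
    refine congrArg List.sum (List.map_congr_left fun q _ => ?_)
    by_cases hq : q.1.1 = u.1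
    · simp [hq, he]
    · simp [hq]
  · rw [decide_eq_false he, cond_false]
    refine list_sum_eq_zero fun q _ => ?_
    simp [he]

theorem torusSum {F : Type*} [Field F] (r : ℕ) (t : F) :
    matOf D (torusEntries D r) t = Matrix.of fun a b =>
      match b with
      | Sum.inl i => (match a with | Sum.inl _ => 0 | Sum.inr u => if u.1 = r then ((-D.cartan i r : ℤ) : F) * t else 0)
      | Sum.inr s => (match a with | Sum.inl i => if s.1 = D.neg r then (corD D r i : F) * t else 0 | Sum.inr _ => 0) := by
  ext a b
  simp only [matOf, Matrix.of_apply, torusEntries, list_sum_flatMap, List.map_cons, List.map_nil,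
    List.sum_cons, List.sum_nil, add_zero]
  cases b with
  | inl i =>
    rw [list_range_sum_single i.2]
    · cases a with
      | inl i' =>
        simp only [code_inl]
        rw [if_neg, if_neg, add_zero]
        · rintro ⟨_, h⟩; omega
        · rintro ⟨h, _⟩; omega
      | inr u =>
        simp only [code_inl, code_inr]
        rw [if_neg (c := (i : ℕ) = D.rank + u.1 ∧ _) (by rintro ⟨h, _⟩; omega), add_zero]
        by_cases h : u.1 = r
        · simp [h]
        · rw [if_neg h, if_neg (by rintro ⟨h', _⟩; omega)]
    · intro j _ hj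
      simp only [code_inl]
      rw [if_neg, if_neg, add_zero]
      · rintro ⟨_, h⟩; omega
      · rintro ⟨_, h⟩; exact hj h
  | inr s =>
    cases a with
    | inl i' =>
      rw [list_range_sum_single i'.2]
      · simp only [code_inl, code_inr]
        rw [if_neg (c := D.rank + r = (i' : ℕ) ∧ _) (by rintro ⟨h, _⟩; omega), zero_add]
        by_cases h : s.1 = D.neg r
        · simp [h]
        · rw [if_neg h, if_neg (by rintro ⟨_, h'⟩; omega)]
      · intro j _ hj
        simp only [code_inl, code_inr]
        rw [if_neg, if_neg, add_zero]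
        · rintro ⟨h, _⟩; exact hj h
        · rintro ⟨h, _⟩; omega
    | inr u =>
      refine list_sum_eq_zero fun j hj => ?_
      have := List.mem_range.1 hj
      simp only [code_inr]
      rw [if_neg, if_neg, add_zero]
      · rintro ⟨h, _⟩; omega
      · rintro ⟨_, h⟩; omega

/-- `x_r(t) = 1 + ` sparse part -/
theorem xMat_eq {F : Type*} [Field F] {r : ℕ} (hr : r < D.nroots) (hne : D.neg r ≠ r)
    (hkeys : ∀ e ∈ row D r, e.1 ≠ r ∧ e.1 ≠ D.neg r) (t : F) :
    D.x F r t = 1 + matOf D (entries D r) t := by
  have hsplit : matOf D (entries D r) t = matOf D (torusEntries D r) t +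
      (matOf D [(2, D.rank + r, D.rank + D.neg r, (-1 : ℤ))] t + matOf D (chainEntries D r) t) := by
    rw [entries, matOf_append]
    congr 1
    rw [← matOf_append]
    rfl
  rw [hsplit, torusSum]
  ext a b
  rw [ChevalleyDatum.x, dif_pos hr]
  simp only [Matrix.add_apply, Matrix.of_apply, ChevalleyDatum.xMat]
  cases b with
  | inl i =>
    have h1 : matOf D [(2, D.rank + r, D.rank + D.neg r, (-1 : ℤ))] t a (Sum.inl i) = 0 := by
      simp only [matOf, Matrix.of_apply, List.map_cons, List.map_nil, List.sum_cons, List.sum_nil, code_inl]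
      rw [if_neg, add_zero]; rintro ⟨_, h⟩; omega
    rw [h1, chainSum_inl, add_zero, add_zero]
    cases a with
    | inl i' => simp [Matrix.one_apply]
    | inr u =>
      simp only [Matrix.one_apply, reduceCtorEq, if_false, zero_add, Fin.ext_iff]
      simp [ChevalleyDatum.cartan]
  | inr s =>
    simp only [Fin.ext_iff]
    have h1 : matOf D [(2, D.rank + r, D.rank + D.neg r, (-1 : ℤ))] t a (Sum.inr s) =
        (match a with | Sum.inl _ => 0 | Sum.inr u => if u.1 = r ∧ s.1 = D.neg r then -(t ^ 2) else 0) := by
      simp only [matOf, Matrix.of_apply, List.map_cons, List.map_nil, List.sum_cons, List.sum_nil, add_zero]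
      cases a with
      | inl i' =>
        simp only [code_inl, code_inr]
        rw [if_neg]; rintro ⟨h, _⟩; omega
      | inr u =>
        simp only [code_inr, add_right_inj, eq_comm (a := r), eq_comm (a := D.neg r)]
        simp
    rw [h1]
    by_cases hs : s.1 = r
    · have hn : s.1 ≠ D.neg r := fun h => hne (h.symm.trans hs)
      rw [chainSum_inr_eq_zero D r t a s (fun e he h => (hkeys e he).1 (h.trans hs))]
      cases a with
      | inl i' => simp [hs, hn, Matrix.one_apply, Ne.symm hne]
      | inr u => simp [hs, hn, Matrix.one_apply, Fin.ext_iff, Ne.symm hne]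
    · by_cases hn : s.1 = D.neg r
      · have hn' : (s : ℕ) = D.negIdx.getD r 0 := hn
        rw [chainSum_inr_eq_zero D r t a s (fun e he h => (hkeys e he).2 (h.trans hn)), if_neg hs, if_pos hn']
        cases a with
        | inl i' => simp [hn, Matrix.one_apply, corD]
        | inr u =>
          simp only [hn, and_true, Matrix.one_apply, Sum.inr.injEq, Fin.ext_iff, zero_add, add_zero]
          by_cases h2 : u.1 = D.neg r
          · simp [h2, hne]
          · simp [h2]
      · have hn' : ¬ (s : ℕ) = D.negIdx.getD r 0 := hn
        rw [if_neg hs, if_neg hn']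
        cases a with
        | inl i' => rw [chainSum_row_inl]; simp [hn, Matrix.one_apply]
        | inr u => rw [chainSum_inr_inr]; simp [hn, Matrix.one_apply, Fin.ext_iff]

/-! ### sparse vectors with polynomial coefficients -/

/-- value at coordinate `j` of a sparse vector with entries (deg t, deg u, index, coefficient) -/
def evalV {F : Type*} [Field F] (t u : F) (v : List (ℕ × ℕ × ℕ × ℤ)) (j : ℕ) : F :=
  (v.map fun e => if e.2.2.1 = j then (e.2.2.2 : F) * t ^ e.1 * u ^ e.2.1 else 0).sum

/-- the entries of `x_r(t) - 1` in one column -/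
def colEntries (r c : ℕ) : List (ℕ × ℕ × ℕ × ℤ) :=
  (bif Nat.blt c D.rank then [(1, D.rank + r, c, - D.cartan c r)] else []) ++
    ((bif Nat.beq c (D.rank + D.neg r) then
        ((List.range D.rank).map fun i => (1, i, c, corD D r i)) ++ [(2, D.rank + r, c, -1)]
      else []) ++
    ((row D r).filter fun e => Nat.beq (D.rank + e.1) c).flatMap fun e =>
      e.2.toList.zipIdx.map fun q => (q.2 + 1, D.rank + q.1.1, c, q.1.2))

theorem colEntries_sum {M : Type*} [AddCommMonoid M] (r c : ℕ) (g : ℕ × ℕ × ℕ × ℤ → M) :
    ((colEntries D r c).map g).sum = (((entries D r).filter fun f => Nat.beq f.2.2.1 c).map g).sum := by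
  have hb : ∀ a b : ℕ, Nat.beq a b = decide (a = b) := fun a b => by
    rw [Bool.eq_iff_iff, decide_eq_true_iff]
    exact ⟨Nat.eq_of_beq_eq_true, fun h => by subst h; exact Nat.beq_refl a⟩
  simp only [colEntries, entries, torusEntries, chainEntries, list_sum_filter, List.map_append, List.sum_append,
    List.map_cons, List.sum_cons, List.map_nil, List.sum_nil, add_zero, list_sum_flatMap, List.map_map,
    Function.comp_def, hb]
  have h1 : ((bif Nat.blt c D.rank then [(1, D.rank + r, c, - D.cartan c r)] else []).map g).sum =
      ((List.range D.rank).map fun i => bif decide (i = c) then g (1, D.rank + r, i, - D.cartan i r) else 0).sum := by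
    by_cases hc : c < D.rank
    · rw [show Nat.blt c D.rank = true by simp [Nat.blt, hc], cond_true,
        list_range_sum_single hc _ (fun j _ hj => by simp [hj])]
      simp
    · rw [show Nat.blt c D.rank = false from Bool.eq_false_iff.2 fun h => hc (Nat.le_of_ble_eq_true h), cond_false]
      exact (list_sum_eq_zero fun j hj => by
        have := List.mem_range.1 hj
        rw [decide_eq_false (by omega : ¬ j = c), cond_false]).symm
  have h3 : ∀ x : ℕ × Array (ℕ × ℤ), (bif decide (D.rank + x.1 = c) then
        (x.2.toList.zipIdx.map fun q => g (q.2 + 1, D.rank + q.1.1, c, q.1.2)).sum else 0) =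
      (x.2.toList.zipIdx.map fun q => bif decide (D.rank + x.1 = c) then
        g (q.2 + 1, D.rank + q.1.1, D.rank + x.1, q.1.2) else 0).sum := by
    intro x
    by_cases h : D.rank + x.1 = c
    · simp [h]
    · simp [h]
  rw [h1, List.sum_map_add, List.map_congr_left (g := fun x => _) fun x _ => h3 x]
  by_cases hc : c = D.rank + D.neg r
  · subst hc
    simp only [decide_true, cond_true, List.map_append, List.sum_append, List.map_map, Function.comp_def,
      List.map_cons, List.map_nil, List.sum_cons, List.sum_nil, add_zero]
    abel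
  · simp [hc, Ne.symm hc, add_assoc]

/-- apply `x_r(P)` where `P k` lists the monomials of the `k`-th power of the parameter -/
def act (r : ℕ) (P : ℕ → List (ℕ × ℕ × ℤ)) (v : List (ℕ × ℕ × ℕ × ℤ)) : List (ℕ × ℕ × ℕ × ℤ) :=
  v ++ v.flatMap fun e =>
    (colEntries D r e.2.2.1).flatMap fun f =>
      (P f.1).map fun p => (e.1 + p.1, e.2.1 + p.2.1, f.2.1, e.2.2.2 * f.2.2.2 * p.2.2)

theorem act_spec {F : Type*} [Field F] {r : ℕ} (hr : r < D.nroots) (hne : D.neg r ≠ r)
    (hkeys : ∀ e ∈ row D r, e.1 ≠ r ∧ e.1 ≠ D.neg r)
    (hcol : ∀ e ∈ entries D r, e.2.2.1 < D.rank + D.nroots)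
    (t u τ : F) (P : ℕ → List (ℕ × ℕ × ℤ))
    (hP : ∀ k, ((P k).map fun p => (p.2.2 : F) * t ^ p.1 * u ^ p.2.1).sum = τ ^ k)
    (v : List (ℕ × ℕ × ℕ × ℤ)) :
    D.x F r τ *ᵥ (fun a => evalV t u v (code D a)) = fun a => evalV t u (act D r P v) (code D a) := by
  funext a
  rw [xMat_eq D hr hne hkeys, Matrix.add_mulVec, Pi.add_apply, Matrix.one_mulVec]
  have e1 : evalV t u (act D r P v) (code D a) = evalV t u v (code D a) +
      ((entries D r).map fun f => if f.2.1 = code D a
        then (f.2.2.2 : F) * τ ^ f.1 * evalV t u v f.2.2.1 else 0).sum := by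
    simp only [evalV, act, List.map_append, List.sum_append]
    congr 1
    induction v with
    | nil => simp
    | cons e v ih =>
      simp only [List.flatMap_cons, List.map_append, List.sum_append, List.map_cons, List.sum_cons]
      rw [ih, list_sum_flatMap, colEntries_sum, list_sum_filter, ← List.sum_map_add]
      refine congrArg List.sum (List.map_congr_left fun f _ => ?_)
      by_cases hc : f.2.2.1 = e.2.2.1
      · rw [show Nat.beq f.2.2.1 e.2.2.1 = true by simp [hc], cond_true]
        by_cases ha : f.2.1 = code D a
        · rw [if_pos ha, if_pos ha, hc, if_pos rfl, List.map_map, ← hP f.1]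
          simp only [Function.comp_def, ha, if_true]
          rw [mul_add]
          congr 1
          rw [← List.sum_map_mul_left, ← List.sum_map_mul_right]
          refine congrArg List.sum (List.map_congr_left fun p _ => ?_)
          push_cast; rw [pow_add, pow_add]; ring
        · rw [if_neg ha, if_neg ha, List.map_map]
          simp only [Function.comp_def, ha, if_false]
          rw [list_sum_eq_zero fun p _ => rfl, add_zero]
      · rw [show Nat.beq f.2.2.1 e.2.2.1 = false from Bool.eq_false_iff.2 fun h => hc (Nat.eq_of_beq_eq_true h), cond_false, if_neg (Ne.symm hc)]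
        simp
  rw [e1]
  congr 1
  simp only [Matrix.mulVec, dotProduct, matOf, Matrix.of_apply]
  clear e1
  generalize entries D r = M at hcol ⊢
  induction M with
  | nil => simp
  | cons f L ih =>
    simp only [List.map_cons, List.sum_cons, add_mul, Finset.sum_add_distrib]
    rw [ih fun e he => hcol e (List.mem_cons_of_mem _ he)]
    congr 1
    obtain ⟨b, hb⟩ := exists_code D (hcol f (List.mem_cons_self ..))
    by_cases ha : f.2.1 = code D a
    · rw [if_pos ha, Finset.sum_eq_single b]
      · rw [if_pos ⟨ha, hb.symm⟩, hb]
      · intro c _ hc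
        rw [if_neg, zero_mul]
        exact fun h => hc (code_injective D (h.2.symm.trans hb.symm))
      · simp
    · rw [if_neg ha]
      exact Finset.sum_eq_zero fun c _ => by rw [if_neg (fun h => ha h.1), zero_mul]

/-- equality test of sparse vectors -/
def eqV (v v' : List (ℕ × ℕ × ℕ × ℤ)) : Bool :=
  let L := v ++ v'.map fun e => (e.1, e.2.1, e.2.2.1, - e.2.2.2)
  L.all fun e =>
    decide (((L.filter fun f => Nat.beq f.2.2.1 e.2.2.1 && Nat.beq f.1 e.1 && Nat.beq f.2.1 e.2.1).map fun f =>
      f.2.2.2).sum = 0)

theorem evalV_of_balanced {F : Type*} [Field F] (t u : F) (j : ℕ) :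
    ∀ (n : ℕ) (L : List (ℕ × ℕ × ℕ × ℤ)), L.length ≤ n →
      (∀ e ∈ L, ((L.filter fun f => decide ((f.2.2.1, f.1, f.2.1) = (e.2.2.1, e.1, e.2.1))).map fun f => f.2.2.2).sum = 0) →
      evalV t u L j = 0 := by
  intro n
  induction n with
  | zero => intro L hL _; rw [List.length_eq_zero_iff.1 (Nat.le_zero.1 hL)]; rfl
  | succ n ih =>
    intro L hL hbal
    match L with
    | [] => rfl
    | e :: L' =>
      let p : ℕ × ℕ × ℕ × ℤ → Bool := fun f => decide ((f.2.2.1, f.1, f.2.1) = (e.2.2.1, e.1, e.2.1))
      have hp : (List.filter p (e :: L') ++ List.filter (fun f => !p f) (e :: L')).Perm (e :: L') :=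
        List.filter_append_perm p _
      have h0 : evalV t u (List.filter (fun f => !p f) (e :: L')) j = 0 := by
        refine ih _ ?_ ?_
        · have h1 : p e = true := by simp [p]
          have h2 := List.length_filter_le (fun f => !p f) L'
          rw [List.filter_cons_of_neg (by simp [h1])]
          simp only [List.length_cons] at hL
          omega
        · intro f hf
          obtain ⟨hf1, hf2⟩ := List.mem_filter.1 hf
          rw [List.filter_filter]
          have := hbal f hf1
          refine Eq.trans ?_ this
          congr 2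
          refine List.filter_congr fun g _ => ?_
          by_cases hg : (g.2.2.1, g.1, g.2.1) = (f.2.2.1, f.1, f.2.1)
          · simp only [p, hg, decide_true, Bool.true_and]
            simpa [p] using hf2
          · simp [hg]
      have h1 : evalV t u (List.filter p (e :: L')) j = 0 := by
        have h2 : ∀ f ∈ List.filter p (e :: L'),
            (if f.2.2.1 = j then (f.2.2.2 : F) * t ^ f.1 * u ^ f.2.1 else 0) =
            (f.2.2.2 : F) * (if e.2.2.1 = j then t ^ e.1 * u ^ e.2.1 else 0) := by
          intro f hf
          have h3 := of_decide_eq_true (List.mem_filter.1 hf).2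
          simp only [Prod.mk.injEq] at h3
          rw [h3.1, h3.2.1, h3.2.2]
          split_ifs <;> ring
        rw [evalV, List.map_congr_left h2, List.sum_map_mul_right]
        have h3 := congrArg (fun z : ℤ => (z : F)) (hbal e (List.mem_cons_self ..))
        simp only [Int.cast_list_sum, List.map_map, Int.cast_zero, Function.comp_def] at h3
        rw [h3, zero_mul]
      have := (hp.map fun f => if f.2.2.1 = j then (f.2.2.2 : F) * t ^ f.1 * u ^ f.2.1 else 0).sum_eq
      rw [List.map_append, List.sum_append] at this
      unfold evalV at h0 h1 ⊢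
      rw [← this, h0, h1, add_zero]

theorem eqV_spec {F : Type*} [Field F] {v v' : List (ℕ × ℕ × ℕ × ℤ)} (h : eqV v v' = true) (t u : F) (j : ℕ) :
    evalV t u v j = evalV t u v' j := by
  have h0 : evalV t u (v ++ v'.map fun e => (e.1, e.2.1, e.2.2.1, - e.2.2.2)) j = 0 := by
    refine evalV_of_balanced t u j _ _ le_rfl fun e he => ?_
    simp only [eqV, List.all_eq_true] at h
    refine Eq.trans ?_ (of_decide_eq_true (h e he))
    congr 2
    refine List.filter_congr fun f _ => ?_
    rw [Bool.eq_iff_iff]
    simp [and_assoc]
  rw [← sub_eq_zero, ← h0]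
  simp only [evalV, List.map_append, List.sum_append, List.map_map, Function.comp_def, sub_eq_add_neg]
  congr 1
  rw [List.sum_neg, List.map_map]
  refine congrArg List.sum (List.map_congr_left fun e _ => ?_)
  simp only [Function.comp_def]
  split_ifs <;> simp

end CfsgLib.Lie.Chev
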