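/-
Boolean checks on the tables of a Chevalley datum, to be evaluated by the kernel.
-/
import Cfsg.Agent.Lib.Lie.Chev.Basic

set_option autoImplicit false

namespace CfsgLib.Lie.Chev

open Cfsg.Lie (ChevalleyDatum)

/-- insertion of a number in a sorted list -/
noncomputable def insN (a : ℕ) : List ℕ → List ℕ :=
  fun l => List.rec [a] (fun b t ih => bif Nat.ble a b then a :: b :: t else b :: ih) l

/-- insertion sort -/
noncomputable def srtN : List ℕ → List ℕ :=
  fun l => List.rec [] (fun a _ ih => insN a ih) l

/-- equality test of lists of numbers -/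
noncomputable def beqN : List ℕ → List ℕ → Bool :=
  fun l => List.rec (fun l' => List.casesOn l' true (fun _ _ => false))
    (fun a _ ih l' => List.casesOn l' false (fun b t => Nat.beq a b && ih t)) l

theorem insN_perm (a : ℕ) (l : List ℕ) : (insN a l).Perm (a :: l) := by
  induction l with
  | nil => exact List.Perm.refl _
  | cons b t ih =>
    show (bif Nat.ble a b then a :: b :: t else b :: insN a t).Perm _
    cases Nat.ble a b with
    | true => exact List.Perm.refl _
    | false => exact ((ih.cons b).trans (List.Perm.swap a b t))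

theorem srtN_perm (l : List ℕ) : (srtN l).Perm l := by
  induction l with
  | nil => exact List.Perm.refl _
  | cons a t ih =>
    show (insN a (srtN t)).Perm _
    exact (insN_perm a _).trans (ih.cons a)

theorem eq_of_beqN : ∀ {l l' : List ℕ}, beqN l l' = true → l = l'
  | [], [], _ => rfl
  | [], _ :: _, h => nomatch h
  | _ :: _, [], h => nomatch h
  | a :: l, b :: l', h => by
    have h' : (Nat.beq a b && beqN l l') = true := h
    rw [Bool.and_eq_true] at h'
    rw [Nat.eq_of_beq_eq_true h'.1, eq_of_beqN h'.2]

variable (D : ChevalleyDatum) (X : Aux)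

/-- the transformed chain of an entry under the `i`-th reflection -/
def trChain (i r s : ℕ) (ch : List (ℕ × ℤ)) : List (ℕ × ℤ) :=
  ch.zipIdx.map fun q =>
    (X.w i q.1.1,
      bif Bool.xor (X.sg i q.1.1) (Bool.xor (X.sg i s) (Nat.beq (Nat.land (q.2 + 1) 1) 1 && X.sg i r))
      then Int.neg q.1.2 else q.1.2)

/-- code of one chain term -/
def codeTerm (p : ℕ × ℤ) : ℕ :=
  Nat.add (Nat.mul p.1 32) (Nat.add (Int.toNat (p.2 + 16)) 1)

/-- code of a chain entry -/
def codeEntry (s : ℕ) (ch : List (ℕ × ℤ)) : ℕ :=
  Nat.add (Nat.mul s 281474976710656) (ch.foldr (fun p acc => Nat.add (codeTerm p) (Nat.mul acc 65536)) 0)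

/-- strictly increasing, starting at `lo` -/
noncomputable def incrFrom : List ℕ → ℕ → Bool :=
  fun l => List.rec (fun _ => true) (fun a _ ih lo => Nat.ble lo a && ih (a + 1)) l

theorem incrFrom_spec : ∀ {l : List ℕ} {lo : ℕ}, incrFrom l lo = true → l.Nodup ∧ ∀ a ∈ l, lo ≤ a
  | [], _, _ => by simp
  | a :: l, lo, h => by
    have h' : (Nat.ble lo a && incrFrom l (a + 1)) = true := h
    rw [Bool.and_eq_true] at h'
    obtain ⟨h1, h2⟩ := incrFrom_spec h'.2
    have h3 := Nat.le_of_ble_eq_true h'.1
    refine ⟨List.nodup_cons.2 ⟨fun hm => ?_, h1⟩, fun b hb => ?_⟩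
    · have := h2 a hm; omega
    · rcases List.mem_cons.1 hb with rfl | hb
      · exact h3
      · have := h2 b hb; omega

/-- half of the number of roots -/
def half : ℕ := Nat.div D.nroots 2

/-- pairing of the coroot of `s` with the `i`-th simple root -/
def pairR (i s : ℕ) : ℤ := ((List.range D.rank).map fun m => X.cor m s * D.cartan m (D.simple i)).sum

/-- shape of the root list -/
def chkShape : Bool :=
  Nat.beq D.nroots (Nat.mul 2 (half D)) && Nat.ble 1 D.rank && Nat.ble D.nroots 1024 &&
  (List.range D.rank).all (fun i => Nat.ble (half D) (D.simple i) && Nat.blt (D.simple i) D.nroots) &&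
  (List.range D.nroots).all (fun s =>
    Nat.beq (D.neg s) (D.nroots - 1 - s) &&
    (decide (D.IsPosRoot s) == Nat.ble (half D) s) && (decide (D.IsNegRoot s) == Nat.blt s (half D)))

/-- simple reflections -/
def chkW : Bool :=
  (List.range D.rank).all fun i =>
    Nat.beq (X.w i (D.simple i)) (D.nroots - 1 - D.simple i) && X.sg i (D.simple i) &&
    (List.range D.nroots).all fun s =>
      Nat.blt (X.w i s) D.nroots && Nat.beq (X.w i (X.w i s)) s && Nat.beq (D.reflectRoot i s) (X.w i s) &&
      Nat.beq (X.w i (D.nroots - 1 - s)) (D.nroots - 1 - X.w i s) &&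
      (X.sg i (D.nroots - 1 - s) == X.sg i s) &&
      (Nat.blt s (half D) || Nat.beq s (D.simple i) || Nat.ble (half D) (X.w i s)) &&
      (Bool.xor (X.sg i s) (X.sg i (X.w i s)) == Nat.beq (Nat.land (D.cartan i s).natAbs 1) 1)

/-- coordinates of roots and coroots -/
def chkCoef : Bool :=
  (List.range D.rank).all (fun i => (List.range D.rank).all fun j =>
    decide (X.coef j (D.simple i) = if j = i then 1 else 0) && decide (X.cor j (D.simple i) = if j = i then 1 else 0)) &&
  (List.range D.nroots).all fun s =>
    ((List.range D.rank).all fun j =>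
      decide (X.coef j (D.nroots - 1 - s) = - X.coef j s) && decide (X.cor j (D.nroots - 1 - s) = - X.cor j s) &&
      (Nat.blt s (half D) || decide (0 ≤ X.coef j s)) && decide (corD D s j = X.cor j s) &&
      (decide (X.coef j s = 0) == decide (X.cor j s = 0))) &&
    ((List.range D.rank).any fun a => (List.range D.rank).any fun b => Nat.beq (Int.gcd (X.cor a s) (X.cor b s)) 1) &&
    ((List.range D.rank).all fun i =>
      (Nat.beq s (D.simple i) || Nat.beq s (D.nroots - 1 - D.simple i) ||
        (List.range D.rank).any fun j => !(Nat.beq j i) && !(decide (X.coef j s = 0))) &&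
      decide (D.cartan i s = ((List.range D.rank).map fun j => X.coef j s * D.cartan i (D.simple j)).sum))

/-- linearity of the reflections in coordinates -/
def chkLin : Bool :=
  (List.range D.rank).all fun i => (List.range D.nroots).all fun s =>
    (List.range D.rank).all fun j =>
      decide (X.coef j (X.w i s) = bif Nat.beq j i then X.coef j s - D.cartan i s else X.coef j s) &&
      decide (X.cor j (X.w i s) = bif Nat.beq j i then X.cor j s - pairR D X i s else X.cor j s)

/-- the rows of the chain table -/
noncomputable def chkRows : Bool :=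
  (List.range D.nroots).all fun r =>
    incrFrom ((row D r).map Prod.fst) 0 &&
    (row D r).all fun e =>
      Nat.blt e.1 D.nroots && !(Nat.beq e.1 r) && !(Nat.beq e.1 (D.nroots - 1 - r)) &&
      Nat.ble e.2.toList.length 3 &&
      e.2.toList.zipIdx.all fun q =>
        Nat.blt q.1.1 D.nroots && Nat.blt q.1.1 1024 && decide (-15 ≤ q.1.2) && decide (q.1.2 ≤ 15) &&
        (Nat.blt r (half D) || Nat.blt e.1 (half D) ||
          (Nat.blt r q.1.1 && Nat.blt e.1 q.1.1 && Nat.ble (half D) q.1.1)) &&
        (bif Nat.ble (half D) r then Nat.blt e.1 q.1.1 else Nat.blt q.1.1 e.1) &&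
        (Nat.blt r (half D) || Nat.ble (half D) e.1 || Nat.ble r (D.nroots - 1 - e.1) ||
          Nat.ble (half D) q.1.1) &&
        (List.range D.rank).all fun j =>
          decide (X.coef j q.1.1 = X.coef j e.1 + Int.ofNat (q.2 + 1) * X.coef j r)

/-- equivariance of the chain table under one reflection -/
noncomputable def chkEquivAt (i : ℕ) : Bool :=
  (List.range D.nroots).all fun r =>
    beqN (srtN ((row D r).map fun e => codeEntry (X.w i e.1) (trChain X i r e.1 e.2.toList)))
      ((row D (X.w i r)).map fun e => codeEntry e.1 e.2.toList)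

/-- monomial parameter -/
def monP (p q : ℕ) (m : ℤ) : ℕ → List (ℕ × ℕ × ℤ) := fun k => [(Nat.mul k p, Nat.mul k q, m ^ k)]

/-- parameter `t + u` -/
def sumP : ℕ → List (ℕ × ℕ × ℤ) := fun k =>
  (List.range (k + 1)).map fun j => (j, k - j, Int.ofNat (Nat.choose k j))

/-- a basis vector -/
def basisV (c : ℕ) : List (ℕ × ℕ × ℕ × ℤ) := [(0, 0, c, 1)]

/-- image of a basis vector under `n_i(1)` -/
def nCol (i c : ℕ) : List (ℕ × ℕ × ℕ × ℤ) :=
  act D (D.simple i) (monP 0 0 1) (act D (D.neg (D.simple i)) (monP 0 0 (-1))
    (act D (D.simple i) (monP 0 0 1) (basisV c)))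

/-- the matrix of `n_i(1)` -/
def chkN : Bool :=
  (List.range D.rank).all fun i =>
    ((List.range D.rank).all fun j =>
      eqV (nCol D i j) [(0, 0, j, 1), (0, 0, i, - D.cartan j (D.simple i))]) &&
    ((List.range D.nroots).all fun s => eqV (nCol D i (D.rank + s)) [(0, 0, D.rank + X.w i s, X.eta i s)])

/-- additivity at representatives -/
def chkAdd : Bool :=
  X.reps.all fun r => (List.range (D.rank + D.nroots)).all fun c =>
    eqV (act D r (monP 1 0 1) (act D r (monP 0 1 1) (basisV c))) (act D r sumP (basisV c))

/-- commutator formula at base pairs -/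
def chkComm : Bool :=
  X.bases.all fun p =>
    Nat.blt p.1 D.nroots && Nat.blt p.2 D.nroots && !(Nat.beq p.2 p.1) && !(Nat.beq p.2 (D.nroots - 1 - p.1)) &&
    (List.range (D.rank + D.nroots)).all fun c =>
      eqV (act D p.2 (monP 0 1 1) (act D p.1 (monP 1 0 1) (basisV c)))
        (act D p.1 (monP 1 0 1) (act D p.2 (monP 0 1 1)
          ((D.commTerms p.1 p.2).foldr
            (fun k v => act D k.1 (monP k.2.2.1 k.2.2.2 (k.2.1 * (-1) ^ k.2.2.1)) v) (basisV c))))

/-- every root reaches a representative, every pair a base pair, by raising steps -/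
def chkCover : Bool :=
  X.reps.all (fun r => Nat.blt r D.nroots) &&
  (List.range D.nroots).all (fun r =>
    X.reps.any (fun r' => Nat.beq r r') || (List.range D.rank).any fun i => Nat.blt r (X.w i r)) &&
  (List.range D.nroots).all (fun r =>
    Nat.blt r (half D) || (List.range D.rank).any fun i =>
      Nat.beq r (D.simple i) || (Nat.ble (half D) (X.w i r) && Nat.blt (X.w i r) r)) &&
  X.reps.all fun r => (List.range D.nroots).all fun s =>
    Nat.beq s r || Nat.beq s (D.nroots - 1 - r) || X.bases.any (fun p => Nat.beq r p.1 && Nat.beq s p.2) ||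
      (List.range D.rank).any fun i => Nat.beq (X.w i r) r && Nat.blt s (X.w i s)

/-- transformation of a term of the commutator formula -/
def trTerm (i r s : ℕ) (c : ℕ × ℤ × ℕ × ℕ) : ℕ × ℤ × ℕ × ℕ :=
  (X.w i c.1, c.2.1 * X.eta i c.1 * X.eta i r ^ c.2.2.1 * X.eta i s ^ c.2.2.2, c.2.2)

/-- either all chains have length at most two, or the commutator terms are checked directly -/
def chkComm2 : Bool :=
  (List.range D.nroots).all (fun r => (row D r).all fun e => Nat.ble e.2.toList.length 2) ||
  (List.range D.rank).all fun i => (List.range D.nroots).all fun r => (List.range D.nroots).all fun s =>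
    decide (D.commTerms (X.w i r) (X.w i s) = (D.commTerms r s).map (trTerm X i r s))

end CfsgLib.Lie.Chev
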