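/-
Mathematical consequences of the table checks.
-/
import Cfsg.Agent.Lib.Lie.Chev.Checks

set_option autoImplicit false

namespace CfsgLib.Lie.Chev

open Cfsg.Lie (ChevalleyDatum)

/-- all table checks hold -/
structure Cert (D : ChevalleyDatum) (X : Aux) : Prop where
  shape : chkShape D = true
  refl : chkW D X = true
  coords : chkCoef D X = true
  lin : chkLin D X = true
  rows : chkRows D X = true
  nmat : chkN D X = true
  addRep : chkAdd D X = true
  commBase : chkComm D X = true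
  cover : chkCover D X = true
  comm2 : chkComm2 D X = true
  equivRows : ∀ i, i < D.rank → chkEquivAt D X i = true

theorem codeTerm_pos (p : ℕ × ℤ) : 1 ≤ codeTerm p := by
  show 1 ≤ p.1 * 32 + (Int.toNat (p.2 + 16) + 1)
  omega

theorem codeTerm_inj {p q : ℕ × ℤ} (hp : -15 ≤ p.2 ∧ p.2 ≤ 15) (hq : -15 ≤ q.2 ∧ q.2 ≤ 15)
    (h : codeTerm p = codeTerm q) : p = q := by
  have h' : p.1 * 32 + (Int.toNat (p.2 + 16) + 1) = q.1 * 32 + (Int.toNat (q.2 + 16) + 1) := h
  exact Prod.ext (by omega) (by omega)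

/-- bounds on a chain -/
def ValidCh (ch : List (ℕ × ℤ)) : Prop :=
  ch.length ≤ 3 ∧ ∀ p ∈ ch, p.1 < 1024 ∧ -15 ≤ p.2 ∧ p.2 ≤ 15

/-- code of a chain -/
def codeCh (ch : List (ℕ × ℤ)) : ℕ := ch.foldr (fun p acc => Nat.add (codeTerm p) (Nat.mul acc 65536)) 0

theorem codeCh_cons (p : ℕ × ℤ) (ch : List (ℕ × ℤ)) :
    codeCh (p :: ch) = codeTerm p + codeCh ch * 65536 := rfl

theorem codeTerm_lt {p : ℕ × ℤ} (h : p.1 < 1024 ∧ -15 ≤ p.2 ∧ p.2 ≤ 15) : codeTerm p < 65536 := by
  show p.1 * 32 + (Int.toNat (p.2 + 16) + 1) < 65536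
  omega

theorem codeCh_lt : ∀ {ch : List (ℕ × ℤ)}, (∀ p ∈ ch, p.1 < 1024 ∧ -15 ≤ p.2 ∧ p.2 ≤ 15) →
    codeCh ch < 65536 ^ ch.length
  | [], _ => by simp [codeCh]
  | p :: ch, h => by
    have h1 := codeTerm_lt (h p (by simp))
    have h2 := codeCh_lt (ch := ch) fun q hq => h q (by simp [hq])
    rw [codeCh_cons, List.length_cons, pow_succ]
    nlinarith

theorem codeCh_inj : ∀ {a b : List (ℕ × ℤ)}, (∀ p ∈ a, p.1 < 1024 ∧ -15 ≤ p.2 ∧ p.2 ≤ 15) →
    (∀ p ∈ b, p.1 < 1024 ∧ -15 ≤ p.2 ∧ p.2 ≤ 15) → codeCh a = codeCh b → a = b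
  | [], [], _, _, _ => rfl
  | [], q :: b, _, _, h => by
    have := codeTerm_pos q; rw [codeCh_cons] at h; simp [codeCh] at h; omega
  | p :: a, [], _, _, h => by
    have := codeTerm_pos p; rw [codeCh_cons] at h; simp [codeCh] at h; omega
  | p :: a, q :: b, ha, hb, h => by
    rw [codeCh_cons, codeCh_cons] at h
    have h1 := codeTerm_lt (ha p (by simp))
    have h2 := codeTerm_lt (hb q (by simp))
    rw [codeTerm_inj (ha p (by simp)).2 (hb q (by simp)).2 (by omega),
      codeCh_inj (fun x hx => ha x (by simp [hx])) (fun x hx => hb x (by simp [hx]))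
        (show codeCh a = codeCh b by omega)]

theorem codeEntry_inj {s s' : ℕ} {a b : List (ℕ × ℤ)} (ha : ValidCh a) (hb : ValidCh b)
    (h : codeEntry s a = codeEntry s' b) : s = s' ∧ a = b := by
  have h' : s * 281474976710656 + codeCh a = s' * 281474976710656 + codeCh b := h
  have e3 : (281474976710656 : ℕ) = 65536 ^ 3 := by norm_num
  have h1 : codeCh a < 281474976710656 := by
    rw [e3]; exact (codeCh_lt ha.2).trans_le (Nat.pow_le_pow_right (by norm_num) ha.1)
  have h2 : codeCh b < 281474976710656 := by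
    rw [e3]; exact (codeCh_lt hb.2).trans_le (Nat.pow_le_pow_right (by norm_num) hb.1)
  exact ⟨by omega, codeCh_inj ha.2 hb.2 (by omega)⟩

theorem nat_beq_iff {a b : ℕ} : Nat.beq a b = true ↔ a = b :=
  ⟨Nat.eq_of_beq_eq_true, fun h => h ▸ Nat.beq_refl a⟩

theorem nat_ble_iff {a b : ℕ} : Nat.ble a b = true ↔ a ≤ b :=
  ⟨Nat.le_of_ble_eq_true, Nat.ble_eq_true_of_le⟩

theorem nat_blt_iff {a b : ℕ} : Nat.blt a b = true ↔ a < b := nat_ble_iff

theorem eta_parity (X : Aux) (i u r s k : ℕ) (M : ℤ) :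
    (bif Bool.xor (X.sg i u) (Bool.xor (X.sg i s) (Nat.beq (Nat.land k 1) 1 && X.sg i r))
      then Int.neg M else M) = M * X.eta i u * X.eta i s * X.eta i r ^ k := by
  have hk : Nat.beq (Nat.land k 1) 1 = decide (k % 2 = 1) := by
    rw [Bool.eq_iff_iff, nat_beq_iff, decide_eq_true_iff, show Nat.land k 1 = k % 2 from Nat.and_one_is_mod k]
  unfold Aux.eta
  rw [hk]
  rcases Nat.even_or_odd k with h | h
  · have : ¬ k % 2 = 1 := by rw [Nat.even_iff] at h; omega
    cases X.sg i u <;> cases X.sg i s <;> cases X.sg i r <;>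
      simp [this, h.neg_one_pow, show Int.neg M = -M from rfl]
  · have : k % 2 = 1 := Nat.odd_iff.1 h
    cases X.sg i u <;> cases X.sg i s <;> cases X.sg i r <;>
      simp [this, h.neg_one_pow, show Int.neg M = -M from rfl]

theorem trChain_eq (X : Aux) (i r s : ℕ) (ch : List (ℕ × ℤ)) :
    trChain X i r s ch = ch.zipIdx.map fun q =>
      (X.w i q.1.1, q.1.2 * X.eta i q.1.1 * X.eta i s * X.eta i r ^ (q.2 + 1)) := by
  refine List.map_congr_left fun q _ => ?_
  rw [eta_parity]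

namespace Cert

variable {D : ChevalleyDatum} {X : Aux} (C : Cert D X)
include C

theorem shape' : D.nroots = 2 * half D ∧ 1 ≤ D.rank ∧ D.nroots ≤ 1024 ∧
    (∀ i, i < D.rank → half D ≤ D.simple i ∧ D.simple i < D.nroots) ∧
    ∀ s, s < D.nroots → D.neg s = D.nroots - 1 - s ∧ (D.IsPosRoot s ↔ half D ≤ s) ∧
      (D.IsNegRoot s ↔ s < half D) := by
  have h := C.shape
  simp only [chkShape, Bool.and_eq_true, List.all_eq_true, List.mem_range, nat_beq_iff, nat_ble_iff,
    nat_blt_iff, beq_iff_eq] at h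
  obtain ⟨⟨⟨⟨h1, h2⟩, h3⟩, h4⟩, h5⟩ := h
  refine ⟨h1, h2, h3, h4, fun s hs => ?_⟩
  obtain ⟨⟨a, b⟩, c⟩ := h5 s hs
  refine ⟨a, ?_, ?_⟩
  · rw [← decide_eq_true_iff (p := D.IsPosRoot s), b, nat_ble_iff]
  · rw [← decide_eq_true_iff (p := D.IsNegRoot s), c, nat_blt_iff]

theorem nroots_eq : D.nroots = 2 * half D := C.shape'.1
theorem rank_pos : 1 ≤ D.rank := C.shape'.2.1
theorem nroots_le : D.nroots ≤ 1024 := C.shape'.2.2.1
theorem simple_pos {i : ℕ} (hi : i < D.rank) : half D ≤ D.simple i := (C.shape'.2.2.2.1 i hi).1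
theorem simple_lt {i : ℕ} (hi : i < D.rank) : D.simple i < D.nroots := (C.shape'.2.2.2.1 i hi).2
theorem neg_eq {s : ℕ} (hs : s < D.nroots) : D.neg s = D.nroots - 1 - s := (C.shape'.2.2.2.2 s hs).1
theorem pos_iff {s : ℕ} (hs : s < D.nroots) : D.IsPosRoot s ↔ half D ≤ s := (C.shape'.2.2.2.2 s hs).2.1
theorem negRoot_iff {s : ℕ} (hs : s < D.nroots) : D.IsNegRoot s ↔ s < half D := (C.shape'.2.2.2.2 s hs).2.2

theorem neg_lt {s : ℕ} (hs : s < D.nroots) : D.neg s < D.nroots := by rw [C.neg_eq hs]; omega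

theorem neg_ne {s : ℕ} (hs : s < D.nroots) : D.neg s ≠ s := by
  have := C.nroots_eq; rw [C.neg_eq hs]; omega

theorem neg_neg {s : ℕ} (hs : s < D.nroots) : D.neg (D.neg s) = s := by
  rw [C.neg_eq (C.neg_lt hs), C.neg_eq hs]; omega

theorem neg_lt_half_iff {s : ℕ} (hs : s < D.nroots) : D.neg s < half D ↔ half D ≤ s := by
  have := C.nroots_eq; rw [C.neg_eq hs]; omega

theorem half_le_neg_iff {s : ℕ} (hs : s < D.nroots) : half D ≤ D.neg s ↔ s < half D := by
  have := C.nroots_eq; rw [C.neg_eq hs]; omega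

theorem refl' {i : ℕ} (hi : i < D.rank) : (X.w i (D.simple i) = D.nroots - 1 - D.simple i ∧
    X.sg i (D.simple i) = true) ∧ ∀ s, s < D.nroots →
      X.w i s < D.nroots ∧ X.w i (X.w i s) = s ∧ D.reflectRoot i s = X.w i s ∧
      X.w i (D.nroots - 1 - s) = D.nroots - 1 - X.w i s ∧ X.sg i (D.nroots - 1 - s) = X.sg i s ∧
      (s < half D ∨ s = D.simple i ∨ half D ≤ X.w i s) ∧
      Bool.xor (X.sg i s) (X.sg i (X.w i s)) = Nat.beq (Nat.land (D.cartan i s).natAbs 1) 1 := by
  have h := C.refl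
  simp only [chkW, Bool.and_eq_true, List.all_eq_true, List.mem_range, nat_beq_iff, nat_ble_iff,
    nat_blt_iff, beq_iff_eq, Bool.or_eq_true] at h
  obtain ⟨h1, h2⟩ := h i hi
  refine ⟨h1, fun s hs => ?_⟩
  obtain ⟨⟨⟨⟨⟨⟨a, b⟩, c⟩, d⟩, e⟩, f⟩, g⟩ := h2 s hs
  exact ⟨a, b, c, d, e, or_assoc.1 f, g⟩

theorem w_lt {i s : ℕ} (hi : i < D.rank) (hs : s < D.nroots) : X.w i s < D.nroots := ((C.refl' hi).2 s hs).1
theorem w_w {i s : ℕ} (hi : i < D.rank) (hs : s < D.nroots) : X.w i (X.w i s) = s := ((C.refl' hi).2 s hs).2.1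
theorem reflect_eq {i s : ℕ} (hi : i < D.rank) (hs : s < D.nroots) : D.reflectRoot i s = X.w i s :=
  ((C.refl' hi).2 s hs).2.2.1
theorem w_neg {i s : ℕ} (hi : i < D.rank) (hs : s < D.nroots) : X.w i (D.neg s) = D.neg (X.w i s) := by
  rw [C.neg_eq hs, C.neg_eq (C.w_lt hi hs)]; exact ((C.refl' hi).2 s hs).2.2.2.1
theorem eta_neg {i s : ℕ} (hi : i < D.rank) (hs : s < D.nroots) : X.eta i (D.neg s) = X.eta i s := by
  rw [C.neg_eq hs, Aux.eta, Aux.eta, ((C.refl' hi).2 s hs).2.2.2.2.1]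
theorem w_pos {i s : ℕ} (hi : i < D.rank) (hs : s < D.nroots) (hp : half D ≤ s) (hne : s ≠ D.simple i) :
    half D ≤ X.w i s := by
  rcases ((C.refl' hi).2 s hs).2.2.2.2.2.1 with h | h | h
  · omega
  · exact absurd h hne
  · exact h
theorem w_simple {i : ℕ} (hi : i < D.rank) : X.w i (D.simple i) = D.neg (D.simple i) := by
  rw [C.neg_eq (C.simple_lt hi)]; exact (C.refl' hi).1.1
theorem eta_simple {i : ℕ} (hi : i < D.rank) : X.eta i (D.simple i) = -1 := by
  rw [Aux.eta, (C.refl' hi).1.2]; rfl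
theorem eta_mul {i s : ℕ} (hi : i < D.rank) (hs : s < D.nroots) :
    X.eta i s * X.eta i (X.w i s) = (-1) ^ (D.cartan i s).natAbs := by
  have h := ((C.refl' hi).2 s hs).2.2.2.2.2.2
  rw [show Nat.beq (Nat.land (D.cartan i s).natAbs 1) 1 = decide ((D.cartan i s).natAbs % 2 = 1) by
    rw [Bool.eq_iff_iff, nat_beq_iff, decide_eq_true_iff,
      show Nat.land (D.cartan i s).natAbs 1 = (D.cartan i s).natAbs % 2 from Nat.and_one_is_mod _]] at h
  unfold Aux.eta
  rcases Nat.even_or_odd (D.cartan i s).natAbs with hp | hp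
  · rw [decide_eq_false (by rw [Nat.even_iff] at hp; omega)] at h
    rw [hp.neg_one_pow]
    revert h; cases X.sg i s <;> cases X.sg i (X.w i s) <;> decide
  · rw [decide_eq_true (Nat.odd_iff.1 hp)] at h
    rw [hp.neg_one_pow]
    revert h; cases X.sg i s <;> cases X.sg i (X.w i s) <;> decide

theorem coords' : (∀ i j, i < D.rank → j < D.rank →
      X.coef j (D.simple i) = (if j = i then 1 else 0) ∧ X.cor j (D.simple i) = if j = i then 1 else 0) ∧
    ∀ s, s < D.nroots →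
      (∀ j, j < D.rank → X.coef j (D.nroots - 1 - s) = - X.coef j s ∧ X.cor j (D.nroots - 1 - s) = - X.cor j s ∧
        (s < half D ∨ 0 ≤ X.coef j s) ∧ corD D s j = X.cor j s ∧ (X.coef j s = 0 ↔ X.cor j s = 0)) ∧
      (∃ a < D.rank, ∃ b < D.rank, Int.gcd (X.cor a s) (X.cor b s) = 1) ∧
      ∀ i, i < D.rank →
        (s = D.simple i ∨ s = D.nroots - 1 - D.simple i ∨ ∃ j < D.rank, j ≠ i ∧ X.coef j s ≠ 0) ∧
        D.cartan i s = ((List.range D.rank).map fun j => X.coef j s * D.cartan i (D.simple j)).sum := by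
  have h := C.coords
  simp only [chkCoef, Bool.and_eq_true, List.all_eq_true, List.any_eq_true, List.mem_range, nat_beq_iff,
    nat_blt_iff, decide_eq_true_iff, Bool.or_eq_true, Bool.not_eq_true', beq_iff_eq] at h
  refine ⟨fun i j hi hj => ⟨(h.1 i hi j hj).1, (h.1 i hi j hj).2⟩, fun s hs => ?_⟩
  obtain ⟨⟨h1, h2⟩, h3⟩ := h.2 s hs
  refine ⟨fun j hj => ?_, h2, fun i hi => ⟨?_, (h3 i hi).2⟩⟩
  · obtain ⟨⟨⟨⟨a, b⟩, c⟩, d⟩, e⟩ := h1 j hj
    exact ⟨a, b, c, d, decide_eq_decide.1 e⟩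
  · rcases (h3 i hi).1 with (h4 | h4) | ⟨j, hj, h5, h6⟩
    · exact Or.inl h4
    · exact Or.inr (Or.inl h4)
    · exact Or.inr (Or.inr ⟨j, hj, fun he => by simp [he] at h5, fun he => by simp [he] at h6⟩)

theorem coef_simple {i j : ℕ} (hi : i < D.rank) (hj : j < D.rank) :
    X.coef j (D.simple i) = if j = i then 1 else 0 := (C.coords'.1 i j hi hj).1
theorem cor_simple {i j : ℕ} (hi : i < D.rank) (hj : j < D.rank) :
    X.cor j (D.simple i) = if j = i then 1 else 0 := (C.coords'.1 i j hi hj).2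
theorem coef_neg {s j : ℕ} (hs : s < D.nroots) (hj : j < D.rank) : X.coef j (D.neg s) = - X.coef j s := by
  rw [C.neg_eq hs]; exact ((C.coords'.2 s hs).1 j hj).1
theorem cor_neg {s j : ℕ} (hs : s < D.nroots) (hj : j < D.rank) : X.cor j (D.neg s) = - X.cor j s := by
  rw [C.neg_eq hs]; exact ((C.coords'.2 s hs).1 j hj).2.1
theorem coef_nonneg {s j : ℕ} (hs : s < D.nroots) (hj : j < D.rank) (hp : half D ≤ s) : 0 ≤ X.coef j s := by
  rcases ((C.coords'.2 s hs).1 j hj).2.2.1 with h | h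
  · omega
  · exact h
theorem corD_eq {s j : ℕ} (hs : s < D.nroots) (hj : j < D.rank) : corD D s j = X.cor j s :=
  ((C.coords'.2 s hs).1 j hj).2.2.2.1
theorem coef_zero_iff {s j : ℕ} (hs : s < D.nroots) (hj : j < D.rank) : X.coef j s = 0 ↔ X.cor j s = 0 :=
  ((C.coords'.2 s hs).1 j hj).2.2.2.2
theorem cor_primitive {s : ℕ} (hs : s < D.nroots) :
    ∃ a < D.rank, ∃ b < D.rank, Int.gcd (X.cor a s) (X.cor b s) = 1 := (C.coords'.2 s hs).2.1
theorem coef_supp {s i : ℕ} (hs : s < D.nroots) (hi : i < D.rank) :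
    s = D.simple i ∨ s = D.neg (D.simple i) ∨ ∃ j < D.rank, j ≠ i ∧ X.coef j s ≠ 0 := by
  rw [C.neg_eq (C.simple_lt hi)]; exact ((C.coords'.2 s hs).2.2 i hi).1
theorem cartan_eq {s i : ℕ} (hs : s < D.nroots) (hi : i < D.rank) :
    D.cartan i s = ∑ j ∈ Finset.range D.rank, X.coef j s * D.cartan i (D.simple j) :=
  ((C.coords'.2 s hs).2.2 i hi).2.trans rfl

theorem lin' {i s j : ℕ} (hi : i < D.rank) (hs : s < D.nroots) (hj : j < D.rank) :
    X.coef j (X.w i s) = (if j = i then X.coef j s - D.cartan i s else X.coef j s) ∧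
    X.cor j (X.w i s) = if j = i then X.cor j s - pairR D X i s else X.cor j s := by
  have h := C.lin
  simp only [chkLin, Bool.and_eq_true, List.all_eq_true, List.mem_range, decide_eq_true_iff] at h
  have hb : Nat.beq j i = decide (j = i) := by rw [Bool.eq_iff_iff, nat_beq_iff, decide_eq_true_iff]
  obtain ⟨a, b⟩ := h i hi s hs j hj
  rw [hb, Bool.cond_decide] at a b
  exact ⟨a, b⟩

theorem cartan_neg {s i : ℕ} (hs : s < D.nroots) (hi : i < D.rank) : D.cartan i (D.neg s) = - D.cartan i s := by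
  rw [C.cartan_eq (C.neg_lt hs) hi, C.cartan_eq hs hi, ← Finset.sum_neg_distrib]
  exact Finset.sum_congr rfl fun j hj => by rw [C.coef_neg hs (Finset.mem_range.1 hj)]; ring

theorem cartan_w {s i j : ℕ} (hs : s < D.nroots) (hi : i < D.rank) (hj : j < D.rank) :
    D.cartan j (X.w i s) = D.cartan j s - D.cartan i s * D.cartan j (D.simple i) := by
  rw [C.cartan_eq (C.w_lt hi hs) hj, C.cartan_eq hs hj]
  have e : ∀ k ∈ Finset.range D.rank, X.coef k (X.w i s) * D.cartan j (D.simple k) =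
      X.coef k s * D.cartan j (D.simple k) - if k = i then D.cartan i s * D.cartan j (D.simple k) else 0 := by
    intro k hk
    rw [(C.lin' hi hs (Finset.mem_range.1 hk)).1]
    split_ifs <;> ring
  rw [Finset.sum_congr rfl e, Finset.sum_sub_distrib, Finset.sum_ite_eq', if_pos (Finset.mem_range.2 hi)]

theorem rows' {r : ℕ} (hr : r < D.nroots) : ((row D r).map Prod.fst).Nodup ∧ ∀ e ∈ row D r,
    e.1 < D.nroots ∧ e.1 ≠ r ∧ e.1 ≠ D.neg r ∧ e.2.toList.length ≤ 3 ∧ ValidCh e.2.toList ∧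
    ∀ q ∈ e.2.toList.zipIdx, q.1.1 < D.nroots ∧
      (half D ≤ r → half D ≤ e.1 → r < q.1.1 ∧ e.1 < q.1.1 ∧ half D ≤ q.1.1) ∧
      (∀ j, j < D.rank → X.coef j q.1.1 = X.coef j e.1 + ((q.2 : ℤ) + 1) * X.coef j r) ∧
      (half D ≤ r → e.1 < q.1.1 ∧ (D.nroots - 1 - e.1 < r → half D ≤ q.1.1)) ∧
      (r < half D → q.1.1 < e.1) := by
  have h := C.rows
  simp only [chkRows, Bool.and_eq_true, List.all_eq_true, List.mem_range] at h
  obtain ⟨h1, h2⟩ := h r hr
  refine ⟨(incrFrom_spec h1).1, fun e he => ?_⟩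
  have h3 := h2 e he
  simp only [nat_blt_iff, nat_ble_iff, Bool.not_eq_true', Bool.or_eq_true, Bool.and_eq_true, List.all_eq_true, List.mem_range, decide_eq_true_iff] at h3
  obtain ⟨⟨⟨⟨a, b⟩, c⟩, d⟩, f⟩ := h3
  refine ⟨a, fun he' => by simp [he'] at b, fun he' => by simp [he', C.neg_eq hr] at c, d, ⟨d, fun p hp => ?_⟩,
    fun q hq => ?_⟩
  · obtain ⟨k, hk, rfl⟩ := List.mem_iff_getElem.1 hp
    obtain ⟨⟨⟨⟨⟨⟨⟨_, g1⟩, g2⟩, g3⟩, _⟩, _⟩, _⟩, _⟩ := f (e.2.toList[k], k) (List.mk_mem_zipIdx_iff_getElem?.2 (by simp))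
    exact ⟨g1, g2, g3⟩
  · obtain ⟨⟨⟨⟨⟨⟨⟨g0, _⟩, _⟩, _⟩, g4⟩, g6⟩, g7⟩, g5⟩ := f q hq
    refine ⟨g0, fun p1 p2 => ?_, fun j hj => ?_, fun p1 => ?_, fun p1 => ?_⟩
    · rcases g4 with (g | g) | g
      · omega
      · omega
      · exact ⟨g.1.1, g.1.2, g.2⟩
    · rw [g5 j hj]
      simp
    · rw [nat_ble_iff.2 p1, cond_true, nat_blt_iff] at g6
      refine ⟨g6, fun p2 => ?_⟩
      rcases g7 with ((g | g) | g) | g <;> omega
    · rw [Bool.eq_false_iff.2 (fun h => absurd (nat_ble_iff.1 h) (by omega)), cond_false, nat_blt_iff] at g6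
      exact g6

theorem key_ne {r : ℕ} (hr : r < D.nroots) : ∀ e ∈ row D r, e.1 ≠ r ∧ e.1 ≠ D.neg r :=
  fun e he => ⟨((C.rows' hr).2 e he).2.1, ((C.rows' hr).2 e he).2.2.1⟩

theorem entries_col_lt {r : ℕ} (hr : r < D.nroots) : ∀ e ∈ entries D r, e.2.2.1 < D.rank + D.nroots := by
  intro e he
  simp only [entries, torusEntries, chainEntries, List.mem_append, List.mem_cons, List.mem_flatMap,
    List.mem_map, List.mem_range, List.not_mem_nil, or_false] at he
  have := C.neg_lt hr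
  rcases he with ⟨i, hi, rfl | rfl⟩ | rfl | ⟨x, hx, q, _, rfl⟩
  · show i < _; omega
  · show D.rank + D.neg r < _; omega
  · show D.rank + D.neg r < _; omega
  · have := ((C.rows' hr).2 x hx).1
    show D.rank + x.1 < _; omega

theorem chainEntry_w {i r s : ℕ} (hi : i < D.rank) (hr : r < D.nroots) (hs : s < D.nroots) :
    D.chainEntry (X.w i r) (X.w i s) =
      (D.chainEntry r s).zipIdx.map fun q =>
        (X.w i q.1.1, q.1.2 * X.eta i q.1.1 * X.eta i s * X.eta i r ^ (q.2 + 1)) := by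
  rw [← trChain_eq]
  have h := C.equivRows i hi
  simp only [chkEquivAt, List.all_eq_true, List.mem_range] at h
  have hperm := eq_of_beqN (h r hr)
  have hmem : ∀ c, c ∈ ((row D r).map fun e => codeEntry (X.w i e.1) (trChain X i r e.1 e.2.toList)) ↔
      c ∈ (row D (X.w i r)).map fun e => codeEntry e.1 e.2.toList := fun c => by
    rw [← (srtN_perm _).mem_iff, hperm]
  have hr' := C.w_lt hi hr
  have hvalid : ∀ e ∈ row D r, ValidCh (trChain X i r e.1 e.2.toList) := by
    intro e he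
    obtain ⟨_, _, _, hl, hv, hq⟩ := (C.rows' hr).2 e he
    refine ⟨by simpa [trChain] using hl, fun p hp => ?_⟩
    simp only [trChain, List.mem_map] at hp
    obtain ⟨q, hq', rfl⟩ := hp
    have h1 := C.w_lt hi (hq q hq').1
    have h2 := C.nroots_le
    have hqm : q.1 ∈ e.2.toList := (List.fst_mem_of_mem_zipIdx hq')
    have h3 := (hv.2 _ hqm).2
    refine ⟨by show X.w i q.1.1 < 1024; omega, ?_⟩
    dsimp only
    cases Bool.xor (X.sg i q.1.1) (Bool.xor (X.sg i e.1) (Nat.beq (Nat.land (q.2 + 1) 1) 1 && X.sg i r)) <;>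
      simp only [cond_true, cond_false, show ∀ z : ℤ, Int.neg z = -z from fun _ => rfl] <;> omega
  have hfind : ∀ (r' : ℕ), r' < D.nroots → ∀ e ∈ row D r',
      D.chainEntry r' e.1 = e.2.toList := by
    intro r' hr'' e he
    have hnd := (C.rows' hr'').1
    have : (row D r').find? (fun x => decide (x.1 = e.1)) = some e := by
      revert he hnd
      induction row D r' with
      | nil => simp
      | cons a L ih =>
        intro he hnd
        simp only [List.map_cons, List.nodup_cons] at hnd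
        rcases List.mem_cons.1 he with rfl | he'
        · simp
        · have hne : a.1 ≠ e.1 := fun hae => hnd.1 (hae ▸ List.mem_map_of_mem he')
          simp [hne, ih he' hnd.2]
    show (match (row D r').find? (fun x => decide (x.1 = e.1)) with | none => [] | some x => x.2.toList) = _
    rw [this]
  by_cases hex : ∃ e ∈ row D r, e.1 = s
  · obtain ⟨e, he, rfl⟩ := hex
    have := (hmem _).1 (List.mem_map_of_mem he)
    obtain ⟨e', he', hc⟩ := List.mem_map.1 this
    obtain ⟨h1, h2⟩ := codeEntry_inj ((C.rows' hr').2 e' he').2.2.2.2.1 (hvalid e he) hc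
    rw [hfind r hr e he, ← h1, hfind _ hr' e' he', h2]
  · simp only [not_exists, not_and] at hex
    have h1 : D.chainEntry r s = [] := by
      show (match (row D r).find? (fun x => decide (x.1 = s)) with | none => [] | some x => x.2.toList) = _
      rw [List.find?_eq_none.2 fun x hx => by simpa using hex x hx]
    have h2 : D.chainEntry (X.w i r) (X.w i s) = [] := by
      show (match (row D (X.w i r)).find? (fun x => decide (x.1 = X.w i s)) with
        | none => [] | some x => x.2.toList) = _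
      rw [List.find?_eq_none.2 fun x hx => ?_]
      intro hxs
      have hxs := of_decide_eq_true hxs
      obtain ⟨e, he, hc⟩ := List.mem_map.1 ((hmem _).2 (List.mem_map_of_mem hx))
      obtain ⟨h3, _⟩ := codeEntry_inj (hvalid e he) ((C.rows' hr').2 x hx).2.2.2.2.1 hc
      refine hex e he ?_
      rw [← C.w_w hi ((C.rows' hr).2 e he).1, h3, hxs, C.w_w hi hs]
    rw [h1, h2]; rfl

theorem chainRoot_w {i r s m : ℕ} (hi : i < D.rank) (hr : r < D.nroots) (hs : s < D.nroots) :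
    D.chainRoot (X.w i r) (X.w i s) m = (D.chainRoot r s m).map (X.w i) := by
  unfold ChevalleyDatum.chainRoot
  rw [C.chainEntry_w hi hr hs]
  simp only [List.getElem?_map, List.getElem?_zipIdx, Option.map_map]
  rfl

theorem chainM_w {i r s m : ℕ} (hi : i < D.rank) (hr : r < D.nroots) (hs : s < D.nroots) (hm : 1 ≤ m) {u : ℕ}
    (hu : D.chainRoot r s m = some u) :
    D.chainM (X.w i r) (X.w i s) m = D.chainM r s m * X.eta i u * X.eta i s * X.eta i r ^ m := by
  unfold ChevalleyDatum.chainRoot at hu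
  unfold ChevalleyDatum.chainM
  rw [C.chainEntry_w hi hr hs]
  obtain ⟨q, hq, rfl⟩ := Option.map_eq_some_iff.1 hu
  simp only [List.getElem?_map, List.getElem?_zipIdx, hq, Option.map_some, Option.getD_some, zero_add]
  rw [show m - 1 + 1 = m by omega]

theorem chainRoot_eq_none {r s m : ℕ} (hr : r < D.nroots)
    (h : ∀ e ∈ row D r, e.2.toList.length < m) : D.chainRoot r s m = none := by
  unfold ChevalleyDatum.chainRoot ChevalleyDatum.chainEntry
  rw [Option.map_eq_none_iff]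
  cases he : (D.chain.getD r #[]).toList.find? (fun e => decide (e.1 = s)) with
  | none => simp
  | some e =>
    have := h e (List.mem_of_find?_eq_some he)
    exact List.getElem?_eq_none (by show e.2.toList.length ≤ m - 1; omega)

theorem commTerms_w {i r s : ℕ} (hi : i < D.rank) (hr : r < D.nroots) (hs : s < D.nroots) :
    D.commTerms (X.w i r) (X.w i s) = (D.commTerms r s).map (trTerm X i r s) := by
  have h := C.comm2
  simp only [chkComm2, Bool.or_eq_true, List.all_eq_true, List.mem_range, decide_eq_true_iff, nat_ble_iff] at h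
  rcases h with h | h
  swap
  · exact h i hi r hr s hs
  have h3 : ∀ a b, a < D.nroots → D.chainRoot a b 3 = none := fun a b ha =>
    C.chainRoot_eq_none ha fun e he => by have := h a ha e he; omega
  unfold ChevalleyDatum.commTerms
  simp only [h3 r s hr, h3 s r hs, h3 (X.w i r) (X.w i s) (C.w_lt hi hr), h3 (X.w i s) (X.w i r) (C.w_lt hi hs),
    C.chainRoot_w hi hr hs, C.chainRoot_w hi hs hr, Option.bind_none, List.filterMap_cons, List.filterMap_nil,
    Option.map_none, Option.map_map]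
  cases h1 : D.chainRoot r s 1 <;> cases h2 : D.chainRoot r s 2 <;> cases h4 : D.chainRoot s r 2 <;>
    simp [trTerm, C.chainM_w hi hr hs le_rfl, C.chainM_w hi hr hs (m := 2), C.chainM_w hi hs hr (m := 2),
      h1, h2, h4] <;> (repeat' constructor) <;> ring

end Cert

end CfsgLib.Lie.Chev
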