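/-
Identities between root element matrices derived from the certificates.
-/
import Cfsg.Agent.Lib.Lie.Chev.Cert

set_option autoImplicit false

namespace CfsgLib.Lie.Chev

open Cfsg.Lie (ChevalleyDatum)
open scoped Matrix

/-- contribution of the chain through `s` to the coefficient of `e_u` -/
def chainSum (D : ChevalleyDatum) {F : Type*} [Field F] (r s u : ℕ) (t : F) : F :=
  ((D.chainEntry r s).zipIdx.map fun q => if q.1.1 = u then (q.1.2 : F) * t ^ (q.2 + 1) else 0).sum

namespace Cert

variable {D : ChevalleyDatum} {X : Aux} (C : Cert D X) {F : Type*} [Field F]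
include C

theorem chainEntry_eq {r : ℕ} (hr : r < D.nroots) {e : ℕ × Array (ℕ × ℤ)} (he : e ∈ row D r) :
    D.chainEntry r e.1 = e.2.toList := by
  have hnd := (C.rows' hr).1
  have : (row D r).find? (fun x => decide (x.1 = e.1)) = some e := by
    revert he hnd
    induction row D r with
    | nil => simp
    | cons a L ih =>
      intro he hnd
      simp only [List.map_cons, List.nodup_cons] at hnd
      rcases List.mem_cons.1 he with rfl | he'
      · simp
      · have hne : a.1 ≠ e.1 := fun hae => hnd.1 (hae ▸ List.mem_map_of_mem he')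
        simp [hne, ih he' hnd.2]
  show (match (row D r).find? (fun x => decide (x.1 = e.1)) with | none => [] | some x => x.2.toList) = _
  rw [this]

theorem mem_chainEntry {r s : ℕ} {q : ℕ × ℤ} (h : q ∈ D.chainEntry r s) :
    ∃ e ∈ row D r, e.1 = s ∧ q ∈ e.2.toList := by
  change q ∈ (match (row D r).find? (fun x => decide (x.1 = s)) with | none => [] | some x => x.2.toList) at h
  cases he : (row D r).find? (fun x => decide (x.1 = s)) with
  | none => rw [he] at h; simp at h
  | some e =>
    rw [he] at h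
    have h2 := List.find?_some he
    simp only [decide_eq_true_eq] at h2
    exact ⟨e, List.mem_of_find?_eq_some he, h2, h⟩

theorem chainCoeff_sum {r s : ℕ} (hr : r < D.nroots) (u : ℕ) (t : F) :
    ((D.chainCoeff r s u).map fun km => ((km.2 : ℤ) : F) * t ^ km.1).sum = chainSum D r s u t := by
  show ((((row D r).filter (fun e => decide (e.1 = s))).flatMap fun e =>
    ((e.2.toList.zipIdx).filter (fun q => decide (q.1.1 = u))).map fun q => (q.2 + 1, q.1.2)).map _).sum = _
  unfold chainSum
  by_cases hex : ∃ e ∈ row D r, e.1 = s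
  · obtain ⟨e, he, rfl⟩ := hex
    rw [C.chainEntry_eq hr he]
    have hf : (row D r).filter (fun x => decide (x.1 = e.1)) = [e] := by
      have hnd := (C.rows' hr).1
      revert he hnd
      induction row D r with
      | nil => simp
      | cons a L ih =>
        intro he hnd
        simp only [List.map_cons, List.nodup_cons] at hnd
        rcases List.mem_cons.1 he with rfl | he'
        · have h0 : L.filter (fun x => decide (x.1 = e.1)) = [] :=
            List.filter_eq_nil_iff.2 fun x hx => by
              simp only [decide_eq_true_eq]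
              exact fun h => hnd.1 (h ▸ List.mem_map_of_mem hx)
          simp [h0]
        · have hne : a.1 ≠ e.1 := fun hae => hnd.1 (hae ▸ List.mem_map_of_mem he')
          simp [hne, ih he' hnd.2]
    rw [hf]
    simp only [List.flatMap_cons, List.flatMap_nil, List.append_nil, List.map_map]
    rw [list_sum_filter]
    refine congrArg List.sum (List.map_congr_left fun q _ => ?_)
    by_cases hq : q.1.1 = u
    · simp [hq]
    · simp [hq]
  · simp only [not_exists, not_and] at hex
    have h1 : D.chainEntry r s = [] := List.eq_nil_iff_forall_not_mem.2 fun q hq => by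
      obtain ⟨e, he, h2, _⟩ := C.mem_chainEntry hq
      exact hex e he h2
    rw [h1, List.filter_eq_nil_iff.2 fun x hx => by simpa using hex x hx]
    rfl

theorem chainEntry_props {r s : ℕ} (hr : r < D.nroots) {q : (ℕ × ℤ) × ℕ} (hq : q ∈ (D.chainEntry r s).zipIdx) :
    s < D.nroots ∧ s ≠ r ∧ s ≠ D.neg r ∧ q.1.1 < D.nroots ∧
      (half D ≤ r → half D ≤ s → r < q.1.1 ∧ s < q.1.1 ∧ half D ≤ q.1.1) ∧
      (∀ j, j < D.rank → X.coef j q.1.1 = X.coef j s + ((q.2 : ℤ) + 1) * X.coef j r) ∧
      (half D ≤ r → s < q.1.1 ∧ (D.nroots - 1 - s < r → half D ≤ q.1.1)) ∧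
      (r < half D → q.1.1 < s) := by
  obtain ⟨e, he, rfl, _⟩ := C.mem_chainEntry (List.fst_mem_of_mem_zipIdx hq)
  rw [C.chainEntry_eq hr he] at hq
  obtain ⟨a, b, c, _, _, h⟩ := (C.rows' hr).2 e he
  exact ⟨a, b, c, h q hq⟩

theorem xM_inl_inl {r : ℕ} (hr : r < D.nroots) (t : F) (i j : Fin D.rank) :
    D.x F r t (Sum.inl i) (Sum.inl j) = if i = j then 1 else 0 := by
  rw [ChevalleyDatum.x, dif_pos hr]; simp [ChevalleyDatum.xMat]

theorem xM_inr_inl {r : ℕ} (hr : r < D.nroots) (t : F) (u : Fin D.nroots) (j : Fin D.rank) :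
    D.x F r t (Sum.inr u) (Sum.inl j) = if u.1 = r then -(D.cartan j r : F) * t else 0 := by
  rw [ChevalleyDatum.x, dif_pos hr]; simp [ChevalleyDatum.xMat, ChevalleyDatum.cartan, Fin.ext_iff]

theorem xM_inl_inr {r : ℕ} (hr : r < D.nroots) (t : F) (i : Fin D.rank) (s : Fin D.nroots) :
    D.x F r t (Sum.inl i) (Sum.inr s) = if s.1 = D.neg r then (X.cor i r : F) * t else 0 := by
  rw [xMat_eq D hr (C.neg_ne hr) (C.key_ne hr), entries, matOf_append, torusSum]
  simp only [Matrix.add_apply, Matrix.of_apply, Matrix.one_apply, reduceCtorEq, if_false, zero_add,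
    C.corD_eq hr i.2]
  have h0 : matOf D ((2, D.rank + r, D.rank + D.neg r, -1) :: chainEntries D r) t (Sum.inl i) (Sum.inr s) = 0 := by
    have h1 := chainSum_row_inl D r t i (Sum.inr s)
    simp only [matOf, Matrix.of_apply, List.map_cons, List.sum_cons] at h1 ⊢
    rw [h1, if_neg, add_zero]
    rintro ⟨h, _⟩; simp only [code_inl] at h; omega
  rw [h0, add_zero]

theorem xM_inr_inr {r : ℕ} (hr : r < D.nroots) (t : F) (u s : Fin D.nroots) :
    D.x F r t (Sum.inr u) (Sum.inr s) = (if u = s then 1 else 0) +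
      (if s.1 = D.neg r ∧ u.1 = r then -(t ^ 2) else 0) + chainSum D r s u t := by
  rw [xMat_eq D hr (C.neg_ne hr) (C.key_ne hr), entries, matOf_append, torusSum]
  simp only [Matrix.add_apply, Matrix.of_apply, Matrix.one_apply, Sum.inr.injEq, zero_add]
  rw [add_assoc, ← C.chainCoeff_sum hr u.1 t, ← chainSum_inr_inr D r t u s]
  congr 1
  simp only [matOf, Matrix.of_apply, List.map_cons, List.sum_cons]
  congr 1
  simp only [code_inr, add_right_inj, eq_comm (a := r), eq_comm (a := D.neg r), Int.cast_neg, Int.cast_one,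
    and_comm (a := u.1 = r), neg_mul, one_mul]

theorem cartan_simple {i : ℕ} (hi : i < D.rank) : D.cartan i (D.simple i) = 2 := by
  have h := (C.lin' hi (C.simple_lt hi) hi).1
  rw [C.w_simple hi, C.coef_neg (C.simple_lt hi) hi, C.coef_simple hi hi, if_pos rfl, if_pos rfl] at h
  omega

theorem cartan_w_self {i s : ℕ} (hi : i < D.rank) (hs : s < D.nroots) :
    D.cartan i (X.w i s) = - D.cartan i s := by
  rw [C.cartan_w hs hi hi, C.cartan_simple hi]; ring

theorem coef_w {i s j : ℕ} (hi : i < D.rank) (hs : s < D.nroots) (hj : j < D.rank) :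
    X.coef j (X.w i s) = if j = i then X.coef j s - D.cartan i s else X.coef j s := (C.lin' hi hs hj).1

end Cert

variable (D : ChevalleyDatum) (X : Aux)

/-- the matrix of `n_i(1)` -/
def nOne (F : Type*) [Field F] (i : ℕ) : Matrix D.Idx D.Idx F :=
  Matrix.of fun a b =>
    match a, b with
    | Sum.inl j', Sum.inl j =>
      (if j' = j then 1 else 0) - (if (j' : ℕ) = i then (D.cartan j (D.simple i) : F) else 0)
    | Sum.inr u, Sum.inr s => if u.1 = X.w i s then (X.eta i s : F) else 0
    | _, _ => 0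

/-- the diagonal matrix scaling `e_s` by `c` to the `i`-th coordinate of `s` -/
def dCoef (F : Type*) [Field F] (i : ℕ) (c : F) : D.Idx → F :=
  Sum.elim (fun _ => 1) (fun s => c ^ X.coef i s.1)

namespace Cert

variable {D X} (C : Cert D X) {F : Type*} [Field F]
include C

theorem evalV_basis (t u : F) (c : D.Idx) :
    (fun a => evalV t u (basisV (code D c)) (code D a)) = Pi.single c (1 : F) := by
  funext a
  simp only [evalV, basisV, List.map_cons, List.map_nil, List.sum_cons, List.sum_nil]
  by_cases h : a = c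
  · subst h; simp
  · rw [Pi.single_eq_of_ne h, if_neg fun he => h (code_injective D he.symm)]; simp

theorem x_mulVec {r : ℕ} (hr : r < D.nroots) (t u τ : F) (P : ℕ → List (ℕ × ℕ × ℤ))
    (hP : ∀ k, ((P k).map fun p => (p.2.2 : F) * t ^ p.1 * u ^ p.2.1).sum = τ ^ k)
    (v : List (ℕ × ℕ × ℕ × ℤ)) :
    D.x F r τ *ᵥ (fun a => evalV t u v (code D a)) = fun a => evalV t u (act D r P v) (code D a) :=
  act_spec D hr (C.neg_ne hr) (C.key_ne hr) (C.entries_col_lt hr) t u τ P hP v

theorem monP_sum (t u : F) (p q : ℕ) (m : ℤ) (k : ℕ) :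
    ((monP p q m k).map fun x => (x.2.2 : F) * t ^ x.1 * u ^ x.2.1).sum = ((m : F) * t ^ p * u ^ q) ^ k := by
  simp only [monP, List.map_cons, List.map_nil, List.sum_cons, List.sum_nil, add_zero]
  rw [show Nat.mul k p = p * k from Nat.mul_comm k p, show Nat.mul k q = q * k from Nat.mul_comm k q,
    mul_pow, mul_pow, ← pow_mul, ← pow_mul, Int.cast_pow]

theorem sumP_sum (t u : F) (k : ℕ) :
    ((sumP k).map fun x => (x.2.2 : F) * t ^ x.1 * u ^ x.2.1).sum = (t + u) ^ k := by
  rw [add_pow]
  simp only [sumP, List.map_map, Function.comp_def]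
  rw [← List.sum_toFinset _ (List.nodup_range), List.toFinset_range]
  refine Finset.sum_congr rfl fun j _ => ?_
  simp; ring

theorem nMat_simple {i : ℕ} (hi : i < D.rank) : D.nMat F (D.simple i) 1 = nOne D X F i := by
  have hp := C.simple_lt hi
  have hn := C.neg_lt hp
  have h1 : ∀ k, ((monP 0 0 1 k).map fun x => (x.2.2 : F) * (1 : F) ^ x.1 * (1 : F) ^ x.2.1).sum = (1 : F) ^ k :=
    fun k => by rw [C.monP_sum]; simp
  have h2 : ∀ k, ((monP 0 0 (-1) k).map fun x => (x.2.2 : F) * (1 : F) ^ x.1 * (1 : F) ^ x.2.1).sum = (-1 : F) ^ k :=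
    fun k => by rw [C.monP_sum]; simp
  have hN := C.nmat
  simp only [chkN, Bool.and_eq_true, List.all_eq_true, List.mem_range] at hN
  obtain ⟨hh, hs⟩ := hN i hi
  refine Matrix.ext_of_mulVec_single fun c => ?_
  have e : D.nMat F (D.simple i) 1 *ᵥ Pi.single c 1 =
      fun a => evalV (1 : F) 1 (nCol D i (code D c)) (code D a) := by
    simp only [ChevalleyDatum.nMat, ChevalleyDatum.wordMat, ChevalleyDatum.nWord, List.map_cons, List.map_nil,
      List.prod_cons, List.prod_nil, mul_one, inv_one, ← Matrix.mulVec_mulVec]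
    rw [← C.evalV_basis (1 : F) 1 c, C.x_mulVec hp 1 1 1 _ h1, C.x_mulVec hn 1 1 (-1) _ h2,
      C.x_mulVec hp 1 1 1 _ h1]
    rfl
  rw [e, Matrix.mulVec_single_one]
  funext a
  cases c with
  | inl j =>
    rw [code_inl, eqV_spec (hh j j.2)]
    simp only [evalV, List.map_cons, List.map_nil, List.sum_cons, List.sum_nil, one_pow, mul_one, add_zero]
    cases a with
    | inl j' =>
      simp only [code_inl, nOne, Matrix.col_apply, Matrix.of_apply, Int.cast_one, Int.cast_neg, Fin.ext_iff,
        eq_comm (a := (j : ℕ)), eq_comm (a := i)]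
      by_cases h : (j' : ℕ) = i <;> simp [h, sub_eq_add_neg]
    | inr u =>
      simp only [code_inr, nOne, Matrix.col_apply, Matrix.of_apply]
      rw [if_neg, if_neg, add_zero] <;> omega
  | inr s =>
    rw [code_inr, eqV_spec (hs s s.2)]
    simp only [evalV, List.map_cons, List.map_nil, List.sum_cons, List.sum_nil, one_pow, mul_one, add_zero]
    cases a with
    | inl j' =>
      simp only [code_inl, nOne, Matrix.col_apply, Matrix.of_apply]
      rw [if_neg]; omega
    | inr u =>
      simp only [code_inr, nOne, Matrix.col_apply, Matrix.of_apply, add_right_inj, eq_comm (a := X.w i s.1)]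

theorem nOne_mul_inl {i : ℕ} (hi : i < D.rank) (M : Matrix D.Idx D.Idx F) (j' : Fin D.rank) (b : D.Idx) :
    (nOne D X F i * M) (Sum.inl j') b = M (Sum.inl j') b -
      if (j' : ℕ) = i then ∑ j : Fin D.rank, (D.cartan j (D.simple i) : F) * M (Sum.inl j) b else 0 := by
  have _ := C; have _ := hi
  rw [Matrix.mul_apply, Fintype.sum_sum_type]
  simp only [nOne, Matrix.of_apply, zero_mul, Finset.sum_const_zero, add_zero, sub_mul, Finset.sum_sub_distrib,
    ite_mul, one_mul, Finset.sum_ite_eq, Finset.mem_univ, if_true]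
  congr 1
  split_ifs <;> simp

theorem nOne_mul_inr {i : ℕ} (hi : i < D.rank) (M : Matrix D.Idx D.Idx F) (u : Fin D.nroots) (b : D.Idx) :
    (nOne D X F i * M) (Sum.inr u) b =
      (X.eta i (X.w i u) : F) * M (Sum.inr ⟨X.w i u, C.w_lt hi u.2⟩) b := by
  rw [Matrix.mul_apply, Fintype.sum_sum_type]
  simp only [nOne, Matrix.of_apply, zero_mul, Finset.sum_const_zero, zero_add]
  rw [Finset.sum_eq_single (⟨X.w i u, C.w_lt hi u.2⟩ : Fin D.nroots)]
  · rw [if_pos (C.w_w hi u.2).symm]
  · intro s _ hs
    rw [if_neg fun h => hs (Fin.ext ?_), zero_mul]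
    show (s : ℕ) = X.w i u
    rw [h, C.w_w hi s.2]
  · simp

theorem mul_nOne_inl {i : ℕ} (hi : i < D.rank) (M : Matrix D.Idx D.Idx F) (a : D.Idx) (j : Fin D.rank) :
    (M * nOne D X F i) a (Sum.inl j) =
      M a (Sum.inl j) - M a (Sum.inl ⟨i, hi⟩) * (D.cartan j (D.simple i) : F) := by
  have _ := C
  rw [Matrix.mul_apply, Fintype.sum_sum_type]
  simp only [nOne, Matrix.of_apply, mul_zero, Finset.sum_const_zero, add_zero, mul_sub, Finset.sum_sub_distrib,
    mul_ite, mul_one, Finset.sum_ite_eq', Finset.mem_univ, if_true]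
  congr 1
  rw [Finset.sum_eq_single (⟨i, hi⟩ : Fin D.rank)]
  · simp
  · intro b _ hb; rw [if_neg fun h => hb (Fin.ext h)]
  · simp

theorem mul_nOne_inr {i : ℕ} (hi : i < D.rank) (M : Matrix D.Idx D.Idx F) (a : D.Idx) (s : Fin D.nroots) :
    (M * nOne D X F i) a (Sum.inr s) =
      M a (Sum.inr ⟨X.w i s, C.w_lt hi s.2⟩) * (X.eta i s : F) := by
  rw [Matrix.mul_apply, Fintype.sum_sum_type]
  simp only [nOne, Matrix.of_apply, mul_zero, Finset.sum_const_zero, zero_add]
  rw [Finset.sum_eq_single (⟨X.w i s, C.w_lt hi s.2⟩ : Fin D.nroots)]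
  · rw [if_pos rfl]
  · intro u _ hu
    rw [if_neg fun h => hu (Fin.ext h), mul_zero]
  · simp

theorem cor_w {i s j : ℕ} (hi : i < D.rank) (hs : s < D.nroots) (hj : j < D.rank) :
    X.cor j (X.w i s) = if j = i then X.cor j s - pairR D X i s else X.cor j s := (C.lin' hi hs hj).2

theorem chainSum_w {i r s u : ℕ} (hi : i < D.rank) (hr : r < D.nroots) (hs : s < D.nroots) (hu : u < D.nroots)
    (t : F) : (X.eta i s : F) * chainSum D (X.w i r) (X.w i s) (X.w i u) ((X.eta i r : F) * t) =
      (X.eta i u : F) * chainSum D r s u t := by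
  unfold chainSum
  rw [C.chainEntry_w hi hr hs, ← List.sum_map_mul_left, ← List.sum_map_mul_left, List.zipIdx_map,
    List.map_map]
  have hz : (D.chainEntry r s).zipIdx.zipIdx =
      (D.chainEntry r s).zipIdx.map fun q => (q, q.2) := by
    apply List.ext_getElem <;> simp
  rw [hz, List.map_map]
  refine congrArg List.sum (List.map_congr_left fun q hq => ?_)
  have hq1 := (C.chainEntry_props hr hq).2.2.2.1
  simp only [Function.comp_apply, Prod.map_fst, Prod.map_snd, id_eq]
  by_cases h : q.1.1 = u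
  · rw [if_pos (by rw [h]), if_pos h, h]
    push_cast
    rw [mul_pow]
    have e1 : ((X.eta i r : ℤ) : F) ^ (q.2 + 1) * (X.eta i r : F) ^ (q.2 + 1) = 1 := by
      rw [← mul_pow, X.eta_sq_cast, one_pow]
    linear_combination (q.1.2 : F) * (X.eta i u : F) * t ^ (q.2 + 1) *
      (((X.eta i r : F) ^ (q.2 + 1) * (X.eta i r : F) ^ (q.2 + 1)) * X.eta_sq_cast (F := F) i s + e1)
  · rw [if_neg, if_neg h, mul_zero, mul_zero]
    intro he
    exact h (by rw [← C.w_w hi hq1, he, C.w_w hi hu])

theorem nOne_mul_x {i r : ℕ} (hi : i < D.rank) (hr : r < D.nroots) (t : F) :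
    nOne D X F i * D.x F r t = D.x F (X.w i r) ((X.eta i r : F) * t) * nOne D X F i := by
  have hr' := C.w_lt hi hr
  ext a b
  cases a with
  | inl j' =>
    rw [C.nOne_mul_inl hi]
    cases b with
    | inl j =>
      rw [C.mul_nOne_inl hi]
      simp only [C.xM_inl_inl hr, C.xM_inl_inl hr', mul_ite, mul_one, mul_zero, Finset.sum_ite_eq',
        Finset.mem_univ, if_true, ite_mul, one_mul, zero_mul]
      simp [Fin.ext_iff]
    | inr s =>
      rw [C.mul_nOne_inr hi, C.xM_inl_inr hr, C.xM_inl_inr hr']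
      simp only [C.xM_inl_inr hr]
      by_cases hsn : s.1 = D.neg r
      · simp only [hsn, if_true]
        rw [if_pos (C.w_neg hi hr), C.eta_neg hi hr, C.cor_w hi hr j'.2]
        by_cases hj : (j' : ℕ) = i
        · simp only [hj, if_true]
          have hp : (pairR D X i r : F) = ∑ j : Fin D.rank, (X.cor j r : F) * (D.cartan j (D.simple i) : F) := by
            simp only [pairR, Int.cast_list_sum, List.map_map, Function.comp_def, Int.cast_mul]
            rw [← List.sum_toFinset _ List.nodup_range, List.toFinset_range,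
              Fin.sum_univ_eq_sum_range (fun j => (X.cor j r : F) * (D.cartan j (D.simple i) : F))]
          have e : ∑ j : Fin D.rank, (D.cartan j (D.simple i) : F) * ((X.cor j r : F) * t) =
              (pairR D X i r : F) * t := by
            rw [hp, Finset.sum_mul]; exact Finset.sum_congr rfl fun j _ => by ring
          rw [e]; push_cast
          linear_combination -((X.cor i r : F) - (pairR D X i r : F)) * t * X.eta_sq_cast (F := F) i r
        · simp only [hj, if_false, sub_zero]
          linear_combination -((X.cor j' r : F)) * t * X.eta_sq_cast (F := F) i r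
      · simp only [hsn, if_false, mul_zero, Finset.sum_const_zero, ite_self, sub_zero]
        rw [if_neg, zero_mul]
        intro h
        refine hsn ?_
        rw [← C.w_w hi s.2, show X.w i s.1 = D.neg (X.w i r) from h, ← C.w_neg hi hr, C.w_w hi (C.neg_lt hr)]
  | inr u =>
    rw [C.nOne_mul_inr hi]
    cases b with
    | inl j =>
      rw [C.mul_nOne_inl hi, C.xM_inr_inl hr, C.xM_inr_inl hr', C.xM_inr_inl hr']
      by_cases hu : u.1 = X.w i r
      · rw [if_pos (show X.w i u.1 = r by rw [hu, C.w_w hi hr]), if_pos hu, if_pos hu, hu, C.w_w hi hr,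
          C.cartan_w_self hi hr, C.cartan_w hr hi j.2]
        push_cast; ring
      · rw [if_neg (show ¬ X.w i u.1 = r from fun h => hu (by rw [← h, C.w_w hi u.2])), if_neg hu, if_neg hu]
        ring
    | inr s =>
      rw [C.mul_nOne_inr hi, C.xM_inr_inr hr, C.xM_inr_inr hr']
      obtain ⟨v, hv, huv⟩ : ∃ v, v < D.nroots ∧ u.1 = X.w i v := ⟨X.w i u, C.w_lt hi u.2, (C.w_w hi u.2).symm⟩
      simp only [Fin.ext_iff, huv, C.w_w hi hv]
      have h3 := C.chainSum_w hi hr s.2 hv t
      have e1 : (X.w i v = X.w i s.1) ↔ v = s.1 :=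
        ⟨fun h => by rw [← C.w_w hi hv, h, C.w_w hi s.2], fun h => by rw [h]⟩
      have e2 : (X.w i s.1 = D.neg (X.w i r) ∧ X.w i v = X.w i r) ↔ (s.1 = D.neg r ∧ v = r) := by
        rw [← C.w_neg hi hr]
        exact ⟨fun h => ⟨by rw [← C.w_w hi s.2, h.1, C.w_w hi (C.neg_lt hr)],
          by rw [← C.w_w hi hv, h.2, C.w_w hi hr]⟩, fun h => by rw [h.1, h.2]; exact ⟨rfl, rfl⟩⟩
      simp only [e1, e2]
      by_cases hd : s.1 = D.neg r ∧ v = r
      · obtain ⟨hd1, hd2⟩ := hd
        have hη : (X.eta i s.1 : F) = (X.eta i v : F) := by rw [hd1, hd2, C.eta_neg hi hr]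
        have hne : ¬ v = s.1 := by rw [hd1, hd2]; exact (C.neg_ne hr).symm
        rw [if_neg hne, if_pos ⟨hd1, hd2⟩, if_pos ⟨hd1, hd2⟩, mul_add, add_mul, mul_comm _ (X.eta i s.1 : F),
          mul_comm _ (X.eta i s.1 : F), h3, hη, ← hd2]
        linear_combination t ^ 2 * (X.eta i v : F) * X.eta_sq_cast (F := F) i v
      · rw [if_neg hd, if_neg hd]
        simp only [add_zero]
        by_cases hvs : v = s.1
        · rw [if_pos hvs]; linear_combination -h3 + (congrArg (fun z => (X.eta i z : F)) hvs)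
        · rw [if_neg hvs]; linear_combination -h3

theorem nOne_mul_diag {i : ℕ} (hi : i < D.rank) :
    nOne D X F i * (Matrix.diagonal (dCoef D X F i (-1)) * nOne D X F i * Matrix.diagonal (dCoef D X F i (-1))) = 1 := by
  ext a b
  cases a with
  | inl j' =>
    rw [C.nOne_mul_inl hi]
    simp only [Matrix.mul_diagonal, Matrix.diagonal_mul, dCoef, Sum.elim_inl, one_mul]
    cases b with
    | inl j =>
      simp only [Sum.elim_inl, mul_one, nOne, Matrix.of_apply, mul_sub, Finset.sum_sub_distrib, mul_ite, mul_zero,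
        Finset.sum_ite_eq', Finset.mem_univ, if_true, Matrix.one_apply, Sum.inl.injEq]
      by_cases hj : (j' : ℕ) = i
      · simp only [hj, if_true]
        rw [Finset.sum_eq_single (⟨i, hi⟩ : Fin D.rank)]
        · simp only [if_true, C.cartan_simple hi]; push_cast; ring
        · intro b _ hb; rw [if_neg fun h => hb (Fin.ext h)]
        · simp
      · simp only [hj, if_false, sub_zero]
    | inr s => simp [nOne, Matrix.one_apply]
  | inr u =>
    rw [C.nOne_mul_inr hi]
    simp only [Matrix.mul_diagonal, Matrix.diagonal_mul, dCoef, Sum.elim_inr]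
    cases b with
    | inl j => simp [nOne, Matrix.one_apply]
    | inr s =>
      simp only [Sum.elim_inr, nOne, Matrix.of_apply, Matrix.one_apply, Sum.inr.injEq, Fin.ext_iff]
      by_cases h : u.1 = s.1
      · rw [if_pos (by rw [h]), if_pos h, h]
        have h1 := C.eta_mul hi s.2
        have h2 : X.coef i (X.w i s.1) + X.coef i s.1 = 2 * X.coef i s.1 - D.cartan i s.1 := by
          rw [C.coef_w hi s.2 hi, if_pos rfl]; ring
        have h3 : ((-1 : F) ^ X.coef i (X.w i s.1)) * (-1 : F) ^ X.coef i s.1 =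
            ((-1 : ℤ) ^ (D.cartan i s.1).natAbs : ℤ) := by
          rw [← zpow_add₀ (by norm_num : (-1 : F) ≠ 0), h2, zpow_sub₀ (by norm_num : (-1 : F) ≠ 0), zpow_mul]
          have : ((-1 : F) ^ (2 : ℤ)) = 1 := by norm_num
          rw [this, one_zpow, one_div, ← zpow_neg]
          push_cast
          rcases Int.natAbs_eq (D.cartan i s.1) with hA | hA
          · conv_lhs => rw [hA, zpow_neg, zpow_natCast]
            rw [← inv_pow]; norm_num
          · conv_lhs => rw [hA, _root_.neg_neg, zpow_natCast]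
        rw [← h1] at h3
        push_cast at h3
        linear_combination (X.eta i s.1 : F) * (X.eta i (X.w i s.1) : F) * h3 +
          (X.eta i (X.w i s.1) : F) * (X.eta i (X.w i s.1) : F) * X.eta_sq_cast (F := F) i s.1 +
          X.eta_sq_cast (F := F) i (X.w i s.1)
      · rw [if_neg h, if_neg]
        · ring
        · exact fun he => h (by rw [← C.w_w hi u.2, he, C.w_w hi s.2])

theorem nOne_mul_cancel {i : ℕ} (hi : i < D.rank) {A B : Matrix D.Idx D.Idx F}
    (h : nOne D X F i * A = nOne D X F i * B) : A = B := by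
  have e := mul_eq_one_comm.1 (C.nOne_mul_diag (F := F) hi)
  calc A = _ * nOne D X F i * A := by rw [e, one_mul]
    _ = _ * nOne D X F i * B := by rw [mul_assoc, h, ← mul_assoc]
    _ = B := by rw [e, one_mul]

theorem cover' : (∀ r ∈ X.reps, r < D.nroots) ∧
    (∀ r, r < D.nroots → r ∈ X.reps ∨ ∃ i < D.rank, r < X.w i r) ∧
    (∀ r, r < D.nroots → half D ≤ r → ∃ i < D.rank, r = D.simple i ∨ (half D ≤ X.w i r ∧ X.w i r < r)) ∧
    ∀ r ∈ X.reps, ∀ s, s < D.nroots → s ≠ r → s ≠ D.neg r → (r, s) ∈ X.bases ∨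
      ∃ i < D.rank, X.w i r = r ∧ s < X.w i s := by
  have h := C.cover
  simp only [chkCover, Bool.and_eq_true, List.all_eq_true, List.any_eq_true, Bool.or_eq_true, List.mem_range,
    nat_blt_iff, nat_beq_iff, nat_ble_iff] at h
  obtain ⟨⟨⟨h1, h2⟩, h4'⟩, h3⟩ := h
  refine ⟨h1, fun r hr => ?_, fun r hr hp => ?_, fun r hr s hs hne hne' => ?_⟩
  · rcases h2 r hr with ⟨x, hx, rfl⟩ | h
    · exact Or.inl hx
    · exact Or.inr h
  · rcases h4' r hr with h | h
    · omega
    · exact h
  · rcases h3 r hr s hs with ((h | h) | ⟨p, hp, h4, h5⟩) | h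
    · exact absurd h hne
    · exact absurd h (by rwa [C.neg_eq (h1 r hr)] at hne')
    · exact Or.inl (by rw [h4, h5]; exact hp)
    · exact Or.inr h

theorem x_add {r : ℕ} (hr : r < D.nroots) (t u : F) : D.x F r t * D.x F r u = D.x F r (t + u) := by
  induction hm : D.nroots - r using Nat.strong_induction_on generalizing r t u with
  | _ m ih =>
    rcases C.cover'.2.1 r hr with hrep | ⟨i, hi, hlt⟩
    · refine Matrix.ext_of_mulVec_single fun c => ?_
      have hA := C.addRep
      simp only [chkAdd, List.all_eq_true, List.mem_range] at hA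
      have hc := hA r hrep (code D c) (code_lt D c)
      have h1 : ∀ k, ((monP 1 0 1 k).map fun x => (x.2.2 : F) * t ^ x.1 * u ^ x.2.1).sum = t ^ k :=
        fun k => by rw [C.monP_sum]; simp
      have h2 : ∀ k, ((monP 0 1 1 k).map fun x => (x.2.2 : F) * t ^ x.1 * u ^ x.2.1).sum = u ^ k :=
        fun k => by rw [C.monP_sum]; simp
      rw [← Matrix.mulVec_mulVec, ← C.evalV_basis t u c, C.x_mulVec hr t u u _ h2, C.x_mulVec hr t u t _ h1,
        C.x_mulVec hr t u (t + u) _ (fun k => C.sumP_sum t u k)]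
      exact funext fun a => eqV_spec hc t u (code D a)
    · refine C.nOne_mul_cancel hi ?_
      rw [← mul_assoc, C.nOne_mul_x hi hr, mul_assoc, C.nOne_mul_x hi hr, ← mul_assoc,
        ih (D.nroots - X.w i r) (by omega) (C.w_lt hi hr) _ _ rfl, C.nOne_mul_x hi hr, mul_add]

theorem x_zero {r : ℕ} (hr : r < D.nroots) : D.x F r (0 : F) = 1 := by
  rw [xMat_eq D hr (C.neg_ne hr) (C.key_ne hr)]
  refine add_eq_left.2 ?_
  ext a b
  refine list_sum_eq_zero fun e he => ?_
  have : e.1 ≠ 0 := by
    simp only [entries, torusEntries, chainEntries, List.mem_append, List.mem_cons, List.mem_flatMap,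
      List.mem_map, List.mem_range, List.not_mem_nil, or_false] at he
    rcases he with ⟨i, _, rfl | rfl⟩ | rfl | ⟨x, _, q, _, rfl⟩ <;> simp
  simp [zero_pow this]

theorem commTerms_props {r s : ℕ} (hr : r < D.nroots) (hs : s < D.nroots) :
    ∀ c ∈ D.commTerms r s, c.1 < D.nroots ∧ 1 ≤ c.2.2.1 ∧ 1 ≤ c.2.2.2 ∧
      (half D ≤ r → half D ≤ s → r < c.1 ∧ s < c.1 ∧ half D ≤ c.1) ∧
      ∀ j, j < D.rank → X.coef j c.1 = (c.2.2.1 : ℤ) * X.coef j r + (c.2.2.2 : ℤ) * X.coef j s := by
  have key : ∀ {a b m k : ℕ}, a < D.nroots → 1 ≤ m → D.chainRoot a b m = some k →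
      k < D.nroots ∧ (half D ≤ a → half D ≤ b → a < k ∧ b < k ∧ half D ≤ k) ∧
      ∀ j, j < D.rank → X.coef j k = X.coef j b + (m : ℤ) * X.coef j a := by
    intro a b m k ha hm hk
    unfold ChevalleyDatum.chainRoot at hk
    obtain ⟨q, hq, rfl⟩ := Option.map_eq_some_iff.1 hk
    have hq' : (q, m - 1) ∈ (D.chainEntry a b).zipIdx := List.mk_mem_zipIdx_iff_getElem?.2 hq
    obtain ⟨_, _, _, h1, h2, h3, _⟩ := C.chainEntry_props ha hq'
    refine ⟨h1, h2, fun j hj => ?_⟩
    rw [h3 j hj]
    simp only [Nat.cast_sub hm, Nat.cast_one, sub_add_cancel]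
  intro c hc
  simp only [ChevalleyDatum.commTerms, List.mem_filterMap, List.mem_cons, List.not_mem_nil, or_false] at hc
  obtain ⟨x, hx, hxc⟩ := hc
  obtain ⟨k, hk, rfl⟩ := Option.map_eq_some_iff.1 hxc
  rcases hx with rfl | rfl | rfl | rfl | rfl | rfl | rfl <;> dsimp only at hk ⊢
  · obtain ⟨h1, h2, h3⟩ := key hr le_rfl hk
    exact ⟨h1, le_rfl, le_rfl, h2, fun j hj => by rw [h3 j hj]; push_cast; ring⟩
  · obtain ⟨h1, h2, h3⟩ := key hr (by norm_num) hk
    exact ⟨h1, by norm_num, le_rfl, h2, fun j hj => by rw [h3 j hj]; push_cast; ring⟩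
  · obtain ⟨h1, h2, h3⟩ := key hs (by norm_num) hk
    exact ⟨h1, le_rfl, by norm_num, fun a b => ⟨(h2 b a).2.1, (h2 b a).1, (h2 b a).2.2⟩,
      fun j hj => by rw [h3 j hj]; push_cast; ring⟩
  · obtain ⟨h1, h2, h3⟩ := key hr (by norm_num) hk
    exact ⟨h1, by norm_num, le_rfl, h2, fun j hj => by rw [h3 j hj]; push_cast; ring⟩
  · obtain ⟨h1, h2, h3⟩ := key hs (by norm_num) hk
    exact ⟨h1, le_rfl, by norm_num, fun a b => ⟨(h2 b a).2.1, (h2 b a).1, (h2 b a).2.2⟩,
      fun j hj => by rw [h3 j hj]; push_cast; ring⟩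
  · obtain ⟨k', hk', hk''⟩ := Option.bind_eq_some_iff.1 hk
    obtain ⟨h1, h2, h3⟩ := key hr (by norm_num) hk'
    obtain ⟨g1, g2, g3⟩ := key h1 le_rfl hk''
    refine ⟨g1, by norm_num, by norm_num, fun a b => ?_, fun j hj => ?_⟩
    · obtain ⟨p1, p2, p3⟩ := h2 a b
      obtain ⟨q1, q2, q3⟩ := g2 p3 b
      exact ⟨by omega, q2, q3⟩
    · rw [g3 j hj, h3 j hj]; push_cast; ring
  · obtain ⟨k', hk', hk''⟩ := Option.bind_eq_some_iff.1 hk
    obtain ⟨h1, h2, h3⟩ := key hs (by norm_num) hk'
    obtain ⟨g1, g2, g3⟩ := key h1 le_rfl hk''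
    refine ⟨g1, by norm_num, by norm_num, fun a b => ?_, fun j hj => ?_⟩
    · obtain ⟨p1, p2, p3⟩ := h2 b a
      obtain ⟨q1, q2, q3⟩ := g2 p3 a
      exact ⟨q2, by omega, q3⟩
    · rw [g3 j hj, h3 j hj]; push_cast; ring

theorem nOne_mul_word {i : ℕ} (hi : i < D.rank) (w : List (ℕ × F)) (hw : ∀ p ∈ w, p.1 < D.nroots) :
    nOne D X F i * D.wordMat F w =
      D.wordMat F (w.map fun p => (X.w i p.1, (X.eta i p.1 : F) * p.2)) * nOne D X F i := by
  induction w with
  | nil => simp [ChevalleyDatum.wordMat]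
  | cons p w ih =>
    have ih := ih fun q hq => hw q (List.mem_cons_of_mem _ hq)
    simp only [ChevalleyDatum.wordMat, List.map_cons, List.prod_cons] at ih ⊢
    rw [← mul_assoc, C.nOne_mul_x hi (hw p (List.mem_cons_self ..)), mul_assoc, ih, ← mul_assoc]

theorem x_comm {r s : ℕ} (hr : r < D.nroots) (hs : s < D.nroots) (hne : s ≠ r) (hne' : s ≠ D.neg r) (t u : F) :
    D.x F s u * D.x F r t = D.x F r t * D.x F s u * D.wordMat F (D.commWord F r s t u) := by
  have step : ∀ {i a b : ℕ}, i < D.rank → a < D.nroots → b < D.nroots →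
      (∀ t u : F, D.x F (X.w i b) u * D.x F (X.w i a) t =
        D.x F (X.w i a) t * D.x F (X.w i b) u * D.wordMat F (D.commWord F (X.w i a) (X.w i b) t u)) →
      ∀ t u : F, D.x F b u * D.x F a t = D.x F a t * D.x F b u * D.wordMat F (D.commWord F a b t u) := by
    intro i a b hi ha hb h t u
    have hw : ∀ p ∈ D.commWord F a b t u, p.1 < D.nroots := fun p hp => by
      simp only [ChevalleyDatum.commWord, List.mem_map] at hp
      obtain ⟨c, hc, rfl⟩ := hp
      exact (C.commTerms_props ha hb c hc).1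
    refine C.nOne_mul_cancel hi ?_
    rw [← mul_assoc, C.nOne_mul_x hi hb, mul_assoc, C.nOne_mul_x hi ha, ← mul_assoc, h, ← mul_assoc,
      ← mul_assoc, C.nOne_mul_x hi ha, mul_assoc (D.x F (X.w i a) _) (nOne D X F i), C.nOne_mul_x hi hb,
      ← mul_assoc (D.x F (X.w i a) _), mul_assoc _ (nOne D X F i), C.nOne_mul_word hi _ hw, ← mul_assoc]
    congr 2
    simp only [ChevalleyDatum.commWord, C.commTerms_w hi ha hb, List.map_map]
    refine congrArg _ (List.map_congr_left fun c _ => ?_)
    simp only [Function.comp_apply, trTerm]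
    refine Prod.ext rfl ?_
    push_cast
    have e1 : ((X.eta i a : ℤ) : F) ^ c.2.2.1 * (X.eta i a : F) ^ c.2.2.1 = 1 := by
      rw [← mul_pow, X.eta_sq_cast, one_pow]
    have e2 : ((X.eta i b : ℤ) : F) ^ c.2.2.2 * (X.eta i b : F) ^ c.2.2.2 = 1 := by
      rw [← mul_pow, X.eta_sq_cast, one_pow]
    rw [show -((X.eta i a : F) * t) = (X.eta i a : F) * (-t) by ring, mul_pow, mul_pow]
    linear_combination (X.eta i c.1 : F) * (c.2.1 : F) * (-t) ^ c.2.2.1 * u ^ c.2.2.2 *
      (((X.eta i b : F) ^ c.2.2.2 * (X.eta i b : F) ^ c.2.2.2) * e1 + e2)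
  induction hm : D.nroots - r using Nat.strong_induction_on generalizing r s t u with
  | _ m ih =>
    rcases C.cover'.2.1 r hr with hrep | ⟨i, hi, hlt⟩
    · induction hk : D.nroots - s using Nat.strong_induction_on generalizing s t u with
      | _ k ih2 =>
        rcases C.cover'.2.2.2 r hrep s hs hne hne' with hb | ⟨i, hi, hfix, hlt⟩
        · refine Matrix.ext_of_mulVec_single fun c => ?_
          have hA := C.commBase
          simp only [chkComm, List.all_eq_true, Bool.and_eq_true, List.mem_range] at hA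
          have hc := (hA (r, s) hb).2 (code D c) (code_lt D c)
          have h1 : ∀ k, ((monP 1 0 1 k).map fun x => (x.2.2 : F) * t ^ x.1 * u ^ x.2.1).sum = t ^ k :=
            fun k => by rw [C.monP_sum]; simp
          have h2 : ∀ k, ((monP 0 1 1 k).map fun x => (x.2.2 : F) * t ^ x.1 * u ^ x.2.1).sum = u ^ k :=
            fun k => by rw [C.monP_sum]; simp
          have hfold : D.wordMat F (D.commWord F r s t u) *ᵥ Pi.single c 1 = fun a => evalV t u
              ((D.commTerms r s).foldr (fun k v => act D k.1 (monP k.2.2.1 k.2.2.2 (k.2.1 * (-1) ^ k.2.2.1)) v)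
                (basisV (code D c))) (code D a) := by
            have hv := C.commTerms_props hr hs
            rw [ChevalleyDatum.commWord, ChevalleyDatum.wordMat, List.map_map, ← C.evalV_basis t u c]
            revert hv
            induction D.commTerms r s with
            | nil => intro _; simp
            | cons e L ihL =>
              intro hv
              simp only [List.map_cons, List.prod_cons, List.foldr_cons, Function.comp_apply,
                ← Matrix.mulVec_mulVec]
              rw [ihL fun x hx => hv x (List.mem_cons_of_mem _ hx),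
                C.x_mulVec (hv e (List.mem_cons_self ..)).1 t u ((e.2.1 : F) * (-t) ^ e.2.2.1 * u ^ e.2.2.2)
                  (monP e.2.2.1 e.2.2.2 (e.2.1 * (-1) ^ e.2.2.1)) (fun k => by
                    rw [C.monP_sum]; push_cast
                    rw [show -t = (-1 : F) * t by ring, mul_pow (-1 : F) t]; ring)]
          rw [← Matrix.mulVec_mulVec, ← Matrix.mulVec_mulVec, ← Matrix.mulVec_mulVec, hfold,
            ← C.evalV_basis t u c, C.x_mulVec hr t u t _ h1, C.x_mulVec hs t u u _ h2,
            C.x_mulVec hs t u u _ h2, C.x_mulVec hr t u t _ h1]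
          exact funext fun a => eqV_spec hc t u (code D a)
        · refine step hi hr hs (fun t u => ?_) t u
          rw [hfix]
          refine ih2 (D.nroots - X.w i s) (by omega) (C.w_lt hi hs) ?_ ?_ t u rfl
          · intro h; exact hne (by rw [← C.w_w hi hs, h, hfix])
          · intro h; apply hne'
            rw [← C.w_w hi hs, h]
            conv_lhs => rw [C.w_neg hi hr, hfix]
    · refine step hi hr hs (fun t u => ?_) t u
      refine ih (D.nroots - X.w i r) (by omega) (C.w_lt hi hr) (C.w_lt hi hs) ?_ ?_ t u rfl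
      · intro h; exact hne (by rw [← C.w_w hi hs, h, C.w_w hi hr])
      · intro h
        rw [← C.w_neg hi hr] at h
        exact hne' (by rw [← C.w_w hi hs, h, C.w_w hi (C.neg_lt hr)])

theorem x_scale {i r : ℕ} (hi : i < D.rank) (hr : r < D.nroots) {c : F} (hc : c ≠ 0) (t : F) :
    Matrix.diagonal (dCoef D X F i c) * D.x F r t =
      D.x F r (c ^ X.coef i r * t) * Matrix.diagonal (dCoef D X F i c) := by
  ext a b
  rw [Matrix.diagonal_mul, Matrix.mul_diagonal]
  cases a with
  | inl j' =>
    cases b with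
    | inl j => simp [dCoef, C.xM_inl_inl hr]
    | inr s =>
      simp only [dCoef, Sum.elim_inl, Sum.elim_inr, C.xM_inl_inr hr, one_mul]
      split_ifs with h
      · rw [h, C.coef_neg hr hi]
        have : c ^ X.coef i r * c ^ (-X.coef i r) = 1 := by rw [← zpow_add₀ hc]; simp
        linear_combination -((X.cor j' r : F) * t) * this
      · ring
  | inr u =>
    cases b with
    | inl j =>
      simp only [dCoef, Sum.elim_inl, Sum.elim_inr, C.xM_inr_inl hr, mul_one]
      split_ifs with h
      · rw [h]; ring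
      · ring
    | inr s =>
      simp only [dCoef, Sum.elim_inr, C.xM_inr_inr hr, mul_add, add_mul]
      congr 1
      congr 1
      · split_ifs with h
        · rw [h]; ring
        · ring
      · split_ifs with h
        · rw [h.1, h.2, C.coef_neg hr hi]
          have : c ^ X.coef i r * c ^ (-X.coef i r) = 1 := by rw [← zpow_add₀ hc]; simp
          linear_combination t ^ 2 * (c ^ X.coef i r) * this
        · ring
      · unfold chainSum
        rw [← List.sum_map_mul_left, ← List.sum_map_mul_right]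
        refine congrArg List.sum (List.map_congr_left fun q hq => ?_)
        split_ifs with h
        · rw [← h, (C.chainEntry_props hr hq).2.2.2.2.2.1 i hi, zpow_add₀ hc, mul_pow,
            ← zpow_natCast (c ^ X.coef i r), ← zpow_mul, mul_comm (X.coef i r)]
          push_cast; ring
        · ring

theorem nMat_scale {i : ℕ} (hi : i < D.rank) {c : F} (hc : c ≠ 0) :
    D.nMat F (D.simple i) c * Matrix.diagonal (dCoef D X F i c) =
      Matrix.diagonal (dCoef D X F i c) * nOne D X F i := by
  have hp := C.simple_lt hi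
  have hn := C.neg_lt hp
  have e1 := C.x_scale hi hp hc (1 : F)
  have e2 := C.x_scale hi hn hc (-1 : F)
  rw [C.coef_simple hi hi, if_pos rfl, zpow_one, mul_one] at e1
  rw [C.coef_neg hp hi, C.coef_simple hi hi, if_pos rfl, zpow_neg_one, mul_neg, mul_one] at e2
  rw [← C.nMat_simple hi]
  simp only [ChevalleyDatum.nMat, ChevalleyDatum.wordMat, ChevalleyDatum.nWord, List.map_cons, List.map_nil,
    List.prod_cons, List.prod_nil, mul_one, inv_one]
  rw [mul_assoc, mul_assoc, ← e1, ← mul_assoc (D.x F (D.neg (D.simple i)) _), ← e2,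
    mul_assoc (Matrix.diagonal _), ← mul_assoc, ← e1, mul_assoc (Matrix.diagonal _)]

theorem nMat_apply {i : ℕ} (hi : i < D.rank) {c : F} (hc : c ≠ 0) (a b : D.Idx) :
    D.nMat F (D.simple i) c a b = dCoef D X F i c a * nOne D X F i a b * (dCoef D X F i c b)⁻¹ := by
  have h := congrFun (congrFun (C.nMat_scale hi hc) a) b
  rw [Matrix.mul_diagonal, Matrix.diagonal_mul] at h
  have hb : dCoef D X F i c b ≠ 0 := by
    cases b with
    | inl j => simp [dCoef]
    | inr s => simp [dCoef, zpow_ne_zero _ hc]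
  rw [← h, mul_inv_cancel_right₀ hb]

theorem nMat_mul_x {i r : ℕ} (hi : i < D.rank) (hr : r < D.nroots) {c : F} (hc : c ≠ 0) (t : F) :
    D.nMat F (D.simple i) c * D.x F r t =
      D.x F (X.w i r) ((X.eta i r : F) * c ^ (-(D.cartan i r)) * t) * D.nMat F (D.simple i) c := by
  have hd : ∀ a : D.Idx, dCoef D X F i c a ≠ 0 := fun b => by
    cases b with
    | inl j => simp [dCoef]
    | inr s => simp [dCoef, zpow_ne_zero _ hc]
  obtain ⟨M, hM⟩ : ∃ M, M = Matrix.diagonal (dCoef D X F i c) := ⟨_, rfl⟩
  have hinv : M * Matrix.diagonal (fun a => (dCoef D X F i c a)⁻¹) = 1 := by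
    rw [hM, Matrix.diagonal_mul_diagonal, ← Matrix.diagonal_one]
    congr 1; funext a; exact mul_inv_cancel₀ (hd a)
  have e : D.nMat F (D.simple i) c = M * nOne D X F i * Matrix.diagonal (fun a => (dCoef D X F i c a)⁻¹) := by
    rw [hM, ← C.nMat_scale hi hc, ← hM, mul_assoc, hinv, mul_one]
  have h' : Matrix.diagonal (fun a => (dCoef D X F i c a)⁻¹) * D.x F r t =
      D.x F r (c ^ (-(X.coef i r)) * t) * Matrix.diagonal (fun a => (dCoef D X F i c a)⁻¹) := by
    have h := C.x_scale hi hr hc (c ^ (-(X.coef i r)) * t)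
    rw [← mul_assoc, ← zpow_add₀ hc, add_neg_cancel, zpow_zero, one_mul, ← hM] at h
    calc _ = Matrix.diagonal (fun a => (dCoef D X F i c a)⁻¹) *
          (D.x F r t * M) * Matrix.diagonal (fun a => (dCoef D X F i c a)⁻¹) := by
            rw [mul_assoc, mul_assoc, hinv, mul_one]
      _ = _ := by
            rw [← h, ← mul_assoc, mul_eq_one_comm.1 hinv, one_mul]
  rw [e, mul_assoc, h', ← mul_assoc, mul_assoc M, C.nOne_mul_x hi hr, ← mul_assoc, hM,
    C.x_scale hi (C.w_lt hi hr) hc]
  simp only [← mul_assoc]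
  congr 4
  rw [C.coef_w hi hr hi, if_pos rfl]
  have : c ^ (X.coef i r - D.cartan i r) * c ^ (-X.coef i r) = c ^ (-(D.cartan i r)) := by
    rw [← zpow_add₀ hc]; congr 1; ring
  rw [← this]; ring

theorem hMat_simple {i : ℕ} (hi : i < D.rank) {c : F} (hc : c ≠ 0) :
    D.hMat F (D.simple i) c =
      Matrix.diagonal (Sum.elim (fun _ => (1 : F)) (fun s : Fin D.nroots => c ^ (D.cartan i s))) := by
  have e : D.hMat F (D.simple i) c = D.nMat F (D.simple i) c * D.nMat F (D.simple i) (-1) := by
    simp [ChevalleyDatum.hMat, ChevalleyDatum.hWord, ChevalleyDatum.nMat, ChevalleyDatum.wordMat,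
      List.prod_append]
  have hm : (-1 : F) ≠ 0 := by norm_num
  rw [e]
  ext a b
  rw [Matrix.mul_apply, Fintype.sum_sum_type]
  simp only [C.nMat_apply hi hc, C.nMat_apply hi hm]
  cases a with
  | inl j' =>
    cases b with
    | inl j =>
      simp only [nOne, dCoef, Matrix.of_apply, Sum.elim_inl, inv_one, mul_one, one_mul, mul_zero, zero_mul,
        Finset.sum_const_zero, add_zero, Matrix.diagonal_apply, Sum.inl.injEq]
      simp only [sub_mul, mul_sub, Finset.sum_sub_distrib, ite_mul, one_mul, zero_mul, mul_ite, mul_zero,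
        Finset.sum_ite_eq, Finset.mem_univ, if_true, mul_one]
      by_cases hj : (j' : ℕ) = i
      · simp only [hj, if_true]
        have : ∀ (f : Fin D.rank → F), (∑ x : Fin D.rank, if (x : ℕ) = i then f x else 0) = f ⟨i, hi⟩ := fun f => by
          rw [Finset.sum_eq_single (⟨i, hi⟩ : Fin D.rank)]
          · simp
          · intro b _ hb; rw [if_neg fun h => hb (Fin.ext h)]
          · simp
        simp only [this, Finset.sum_ite_eq', Finset.mem_univ, if_true]
        simp only [C.cartan_simple hi]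
        rw [if_pos (show j' = ⟨i, hi⟩ from Fin.ext hj)]
        push_cast; ring
      · have h0 : ∀ z : F, (∑ x : Fin D.rank, if (x : ℕ) = i then (if j' = x then z else 0) else 0) = 0 := fun z =>
          Finset.sum_eq_zero fun x _ => by
            by_cases hx : (x : ℕ) = i
            · rw [if_pos hx, if_neg (show ¬ j' = x from fun h => hj (by rw [h]; exact hx))]
            · rw [if_neg hx]
        simp [hj, h0]
    | inr s => simp [nOne, dCoef]
  | inr u =>
    cases b with
    | inl j => simp [nOne, dCoef]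
    | inr s =>
      simp only [nOne, dCoef, Matrix.of_apply, Sum.elim_inr, mul_zero, zero_mul, Finset.sum_const_zero,
        zero_add, Matrix.diagonal_apply, Sum.inr.injEq]
      rw [Finset.sum_eq_single (⟨X.w i s, C.w_lt hi s.2⟩ : Fin D.nroots)]
      · simp only [if_true, C.w_w hi s.2]
        by_cases h : u = s
        · subst h
          rw [if_pos rfl, if_pos rfl]
          have h1 := C.eta_mul hi u.2
          rw [C.coef_w hi u.2 hi, if_pos rfl]
          simp only [zpow_sub₀ hc, zpow_sub₀ hm]
          have h2 : (-1 : F) ^ D.cartan i u.1 = ((X.eta i u.1 * X.eta i (X.w i u.1) : ℤ) : F) := by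
            rw [h1]
            push_cast
            rcases Int.natAbs_eq (D.cartan i u.1) with hA | hA
            · conv_lhs => rw [hA, zpow_natCast]
            · conv_lhs => rw [hA, zpow_neg, zpow_natCast]
              rw [← inv_pow]; norm_num
          rw [h2]; push_cast
          have hp := zpow_ne_zero (X.coef i u.1) hc
          have hq := zpow_ne_zero (X.coef i u.1) hm
          have := X.eta_sq_cast (F := F) i u.1
          have := X.eta_sq_cast (F := F) i (X.w i u.1)
          have hη1 : (X.eta i u.1 : F) ≠ 0 := left_ne_zero_of_mul_eq_one (X.eta_sq_cast i u.1)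
          have hη2 : (X.eta i (X.w i u.1) : F) ≠ 0 := left_ne_zero_of_mul_eq_one (X.eta_sq_cast i (X.w i u.1))
          field_simp
        · rw [if_neg (fun he => h (Fin.ext he)), if_neg h]
          ring
      · intro v _ hv
        rw [if_neg (fun h : (v : ℕ) = _ => hv (Fin.ext h))]
        ring
      · simp

end Cert

end CfsgLib.Lie.Chev
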