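/-
All seven tabulated data are certified.
-/
import Cfsg.Agent.Lib.Lie.Chev.Matrix
import Cfsg.Agent.Lib.Lie.Chev.Data.CertG2
import Cfsg.Agent.Lib.Lie.Chev.Data.CertB2
import Cfsg.Agent.Lib.Lie.Chev.Data.CertD4
import Cfsg.Agent.Lib.Lie.Chev.Data.CertF4
import Cfsg.Agent.Lib.Lie.Chev.Data.CertE6
import Cfsg.Agent.Lib.Lie.Chev.Data.CertE7
import Cfsg.Agent.Lib.Lie.Chev.Data.CertE8

set_option autoImplicit false

namespace CfsgLib.Lie.Chev

open Cfsg.Lie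

theorem cert_of_mem {D : ChevalleyDatum}
    (hD : D ∈ [chevG2, chevB2, chevD4, chevF4, chevE6, chevE7, chevE8]) : ∃ X, Cert D X := by
  simp only [List.mem_cons, List.not_mem_nil, or_false] at hD
  rcases hD with rfl | rfl | rfl | rfl | rfl | rfl | rfl
  · exact ⟨_, certG2⟩
  · exact ⟨_, certB2⟩
  · exact ⟨_, certD4⟩
  · exact ⟨_, certF4⟩
  · exact ⟨_, certE6⟩
  · exact ⟨_, certE7⟩
  · exact ⟨_, certE8⟩

end CfsgLib.Lie.Chev
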